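import Cfsg.Agent.CocycleCert.Sound

/-!
Partial certificates: the vectors are recorded only for the edges needed by some chosen scans. They show that the
values of the relators are powers of one element of bounded order, given linear relations among these values.
-/

set_option autoImplicit false

namespace Cfsg.Agent.CocycleCert

open Cfsg.Agent.CosetCert (force force_eq)

/-- The extra data. -/
structure Cone where
  /-- The number of known edges; their ranks are below it. -/
  m : ℕ
  /-- The edge of a rank. -/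
  E : ℕ → ℕ
  /-- Pairs of vectors with equal values on the relator values. -/
  gauge : List (ℕ × ℕ)
  /-- The field of the generator. -/
  u : ℕ
  /-- The order bound. -/
  N : ℕ
  /-- The exponents of the fields. -/
  mult : List ℕ
  /-- For each field a combination: weights and index of a scan or, past them, of a gauge pair. -/
  combos : List (List (ℕ × ℕ × ℕ))
  /-- The combination for the order. -/
  top : List (ℕ × ℕ × ℕ)

variable (C : Cert) (Z : Cone)

/-- The sides named by an index. -/
noncomputable def Cone.pair (i : ℕ) : ℕ × ℕ :=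
  cond (Nat.blt i C.rows.length) (C.rows.getD i (0, 0, 0, 0)).2.2
    (Z.gauge.getD (Nat.sub i C.rows.length) (0, 0))

/-- The entries of a combination. -/
noncomputable def Cone.ents (l : List (ℕ × ℕ × ℕ)) : List Ent :=
  List.rec (motive := fun _ => List Ent) [] (fun e _ r => (e.1, e.2.1, Z.pair C e.2.2) :: r) l

/-- The indices are valid. -/
noncomputable def Cone.idxB (l : List (ℕ × ℕ × ℕ)) : Bool :=
  List.rec (motive := fun _ => Bool) true
    (fun e _ r => Nat.blt e.2.2 (Nat.add C.rows.length Z.gauge.length) && r) l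

/-- A field is a power of the generator. -/
noncomputable def Cone.fieldB (i : ℕ) : Bool :=
  Z.idxB C (Z.combos.getD i []) &&
    linOK C.d ((0, 1, Nat.pow X i, 0) :: (Z.mult.getD i 0, 0, Nat.pow X Z.u, 0) ::
      Z.ents C (Z.combos.getD i []))

/-- The order of the generator. -/
noncomputable def Cone.topB : Bool :=
  Z.idxB C Z.top && linOK C.d ((0, Z.N, Nat.pow X Z.u, 0) :: Z.ents C Z.top)

/-- A recorded scan is correct and meets known edges only. -/
noncomputable def Cone.rowB (e : ℕ × ℕ × ℕ × ℕ) : Bool :=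
  C.rowB e && lowerB C.rank Z.m (path C.T C.back C.K (C.rels.getD e.1 []) e.2.1)

/-- A gauge pair has small fields. -/
noncomputable def Cert.gaugeB (e : ℕ × ℕ) : Bool :=
  Nat.beq (Nat.land e.1 (rep bnd C.nr)) e.1 && Nat.beq (Nat.land e.2 (rep bnd C.nr)) e.2

/-- All checks succeed. -/
structure Cone.Checked : Prop where
  d_eq : C.d = C.nr + C.free.length
  n_pos : 0 < C.n
  K_pos : 0 < C.K
  relsLen : ∀ w ∈ C.rels, w.length ≤ 128
  relsLt : ∀ w ∈ C.rels, ∀ a ∈ w, a.1 < C.K
  u_lt : Z.u < C.d
  tree : ∀ c, c < C.n → C.treeB c = true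
  known : ∀ i, C.rank i < Z.m → Z.E (C.rank i) = i
  var : ∀ p, p < Z.m → C.varB (Z.E p) = true
  row : ∀ e ∈ C.rows, Z.rowB C e = true
  gauge_ok : ∀ e ∈ Z.gauge, C.gaugeB e = true
  field : ∀ i, i < C.nr → Z.fieldB C i = true
  top : Z.topB C = true

variable {C Z}

theorem lowerB_spec {R : ℕ → ℕ} {r : ℕ} : ∀ {l : List (ℕ × Bool)}, lowerB R r l = true →
    ∀ t ∈ l, R t.1 < r
  | [], _, t, ht => absurd ht (by simp)
  | u :: l, h, t, ht => by
    have h' : (Nat.blt (R u.1) r && lowerB R r l) = true := h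
    rw [Bool.and_eq_true, Nat.blt_eq] at h'
    rcases List.mem_cons.mp ht with rfl | ht
    exacts [h'.1, lowerB_spec h'.2 t ht]

theorem solo_ranks {R : ℕ → ℕ} {i r : ℕ} : ∀ {l : List (ℕ × Bool)}, solo R i r l = true →
    ∀ t ∈ l, R t.1 ≤ max r (R i)
  | [], h, _, _ => absurd h (by simp [solo])
  | u :: l, h, t, ht => by
    have h' : (Bool.rec (motive := fun _ => Bool) (Nat.blt (R u.1) r && solo R i r l) (lowerB R r l)
      (Nat.beq u.1 i) : Bool) = true := h
    cases hb : Nat.beq u.1 i with
    | false =>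
      simp only [hb, Bool.and_eq_true, Nat.blt_eq] at h'
      rcases List.mem_cons.mp ht with rfl | ht
      exacts [h'.1.le.trans (le_max_left _ _), solo_ranks h'.2 t ht]
    | true =>
      simp only [hb] at h'
      rcases List.mem_cons.mp ht with rfl | ht
      · rw [Nat.eq_of_beq_eq_true hb]; exact le_max_right _ _
      · exact (lowerB_spec h' t ht).le.trans (le_max_left _ _)

/-- The values of the relators are powers of one element, of order dividing `N`. -/
theorem cone_image (hC : Z.Checked C) {Γ G : Type*} [Group Γ] [Group G] (σ : Γ →* G)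
    (hker : σ.ker ≤ Subgroup.center Γ)
    (φ : G →* Equiv.Perm (Fin C.n)) (g : ℕ → G)
    (hT : ∀ x < C.K, ∀ c : Fin C.n, (((φ (g x))⁻¹ c : Fin C.n) : ℕ) = C.T c x)
    (hback : ∀ x < C.K, ∀ c : Fin C.n, ((φ (g x) c : Fin C.n) : ℕ) = C.back c x)
    (S : Subgroup G) (hS : ∀ y : G, φ y ⟨0, hC.n_pos⟩ = ⟨0, hC.n_pos⟩ → y ∈ S)
    (l0 : ℕ → Γ) (hl0 : ∀ x, σ (l0 x) = g x)
    {A : Type*} [CommGroup A] (ρ : S.comap σ →* A) (zA : ℕ → A)
    (hz : ∀ k < C.nr, evalS l0 (C.rels.getD k []) ∈ σ.ker ∧
      ∀ hm : evalS l0 (C.rels.getD k []) ∈ S.comap σ, zA k = ρ ⟨_, hm⟩)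
    (hgauge : ∀ e ∈ Z.gauge, pv zA C.nr e.1 = pv zA C.nr e.2) :
    ∃ u : A, u ^ Z.N = 1 ∧ ∀ k < C.nr, zA k = u ^ Z.mult.getD k 0 := by
  classical
  -- the right action
  let act : Fin C.n → Γ → Fin C.n := fun c e => (φ (σ e))⁻¹ c
  have act_mul : ∀ c e e', act c (e * e') = act (act c e) e' := fun c e e' => by
    show (φ (σ (e * e')))⁻¹ c = (φ (σ e'))⁻¹ ((φ (σ e))⁻¹ c)
    rw [map_mul, map_mul, mul_inv_rev, Equiv.Perm.mul_apply]
  have act_one : ∀ c, act c 1 = c := fun c => by
    show (φ (σ 1))⁻¹ c = c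
    rw [map_one, map_one, inv_one, Equiv.Perm.one_apply]
  have act_ker : ∀ c z, z ∈ σ.ker → act c z = c := fun c z hz => by
    show (φ (σ z))⁻¹ c = c
    rw [MonoidHom.mem_ker.mp hz, map_one, inv_one, Equiv.Perm.one_apply]
  have act_letter : ∀ x < C.K, ∀ c : Fin C.n, (act c (l0 x) : ℕ) = C.T c x ∧
      (act c (l0 x)⁻¹ : ℕ) = C.back c x := fun x hx c => by
    refine ⟨?_, ?_⟩
    · show (((φ (σ (l0 x)))⁻¹ c : Fin C.n) : ℕ) = _
      rw [hl0]; exact hT x hx c
    · show (((φ (σ (l0 x)⁻¹))⁻¹ c : Fin C.n) : ℕ) = _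
      rw [map_inv, map_inv, inv_inv, hl0]; exact hback x hx c
  let p0 : Fin C.n := ⟨0, hC.n_pos⟩
  -- the transversal
  let τ : ℕ → Γ := fun c => WellFounded.fix (C := fun _ => Γ) Nat.lt_wfRel.wf
    (fun c rec => if h : c ≠ 0 ∧ C.par c / C.K < c then rec _ h.2 * l0 (C.par c % C.K) else 1) c
  have hτeq : ∀ c, τ c = if c ≠ 0 ∧ C.par c / C.K < c then τ (C.par c / C.K) * l0 (C.par c % C.K)
      else 1 := fun c => by
    show WellFounded.fix _ _ c = _
    rw [WellFounded.fix_eq]
    split_ifs <;> rfl
  have htree : ∀ c, c ≠ 0 → c < C.n → C.par c / C.K < c ∧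
      C.T (C.par c / C.K) (C.par c % C.K) = c := fun c h0 hc => by
    have h := hC.tree c hc
    simp only [Cert.treeB, force_eq, Bool.or_eq_true, Bool.and_eq_true, Nat.beq_eq, Nat.blt_eq] at h
    exact h.resolve_left h0
  have hτ : ∀ c : Fin C.n, act p0 (τ c) = c := by
    rintro ⟨c, hc⟩
    induction c using Nat.strong_induction_on with
    | _ c ih =>
      show act p0 (τ c) = ⟨c, hc⟩
      by_cases h0 : c = 0
      · subst h0
        rw [hτeq, if_neg (by simp)]
        exact (act_one p0).trans rfl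
      · obtain ⟨h1, h2⟩ := htree c h0 hc
        have hKpos := hC.K_pos
        rw [hτeq, if_pos ⟨h0, h1⟩, act_mul, ih _ h1 (h1.trans hc)]
        exact Fin.ext ((act_letter _ (Nat.mod_lt _ hKpos) _).1.trans h2)
  -- the cocycle
  have hmem : ∀ (c : Fin C.n) (e : Γ), τ c * e * (τ (act c e))⁻¹ ∈ S.comap σ := fun c e => by
    rw [Subgroup.mem_comap]
    refine hS _ ?_
    have h1 : act p0 (τ c * e * (τ (act c e))⁻¹) = p0 := by
      rw [act_mul, act_mul, hτ]
      generalize act c e = u
      have h3 : act p0 (τ u * (τ u)⁻¹) = p0 := by rw [mul_inv_cancel, act_one]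
      rw [act_mul, hτ] at h3
      exact h3
    have h2 : (φ (σ (τ c * e * (τ (act c e))⁻¹)))⁻¹ p0 = p0 := h1
    exact (Equiv.Perm.inv_eq_iff_eq.mp h2).symm
  let f : Fin C.n → Γ → A := fun c e => ρ ⟨_, hmem c e⟩
  have hfmul : ∀ c e e', f c (e * e') = f c e * f (act c e) e' := fun c e e' => by
    simp only [f, ← map_mul]
    congr 1
    apply Subtype.ext
    simp only [Subgroup.coe_mul, act_mul]
    group
  have hf1 : ∀ c, f c 1 = 1 := fun c => by
    refine (congrArg ρ (Subtype.ext ?_)).trans (map_one ρ)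
    show τ c * 1 * (τ (act c 1))⁻¹ = 1
    rw [act_one, mul_one, mul_inv_cancel]
  have hfinv : ∀ c e, f c e⁻¹ = (f (act c e⁻¹) e)⁻¹ := fun c e => by
    rw [eq_inv_iff_mul_eq_one, ← hfmul, inv_mul_cancel, hf1]
  have hkmem : ∀ z, z ∈ σ.ker → z ∈ S.comap σ := fun z hz => by
    rw [Subgroup.mem_comap, MonoidHom.mem_ker.mp hz]
    exact one_mem S
  have hfker : ∀ (c : Fin C.n) (z : Γ) (hz : z ∈ σ.ker), f c z = ρ ⟨z, hkmem z hz⟩ := fun c z hz => by
    refine congrArg ρ (Subtype.ext ?_)
    show τ c * z * (τ (act c z))⁻¹ = z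
    rw [act_ker c z hz,
      Subgroup.mem_center_iff.mp (hker hz) (τ c), mul_inv_cancel_right]
  let val : ℕ → A := fun i => if h : i / C.K < C.n then f ⟨i / C.K, h⟩ (l0 (i % C.K)) else 1
  have hval : ∀ (c : Fin C.n) x, x < C.K → val ((c : ℕ) * C.K + x) = f c (l0 x) := fun c x hx => by
    have h1 : ((c : ℕ) * C.K + x) / C.K = c := by
      rw [mul_comm, Nat.mul_add_div (by omega), Nat.div_eq_of_lt hx, Nat.add_zero]
    have h2 : ((c : ℕ) * C.K + x) % C.K = x := Nat.mul_add_mod_of_lt hx
    simp only [val, dif_pos (show ((c : ℕ) * C.K + x) / C.K < C.n by rw [h1]; exact c.2), h2]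
    exact congrArg (fun u => f u (l0 x)) (Fin.ext h1)
  have hidx : ∀ (c : Fin C.n) x, x < C.K → (c : ℕ) * C.K + x < C.n * C.K := fun c x hx => by
    have : ((c : ℕ) + 1) * C.K ≤ C.n * C.K := Nat.mul_le_mul_right _ c.2
    rw [Nat.succ_mul] at this
    omega
  have hpath : ∀ (w : List (ℕ × Bool)), (∀ a ∈ w, a.1 < C.K) → ∀ c : Fin C.n,
      f c (evalS l0 w) = tprod val (path C.T C.back C.K w c) ∧
      (path C.T C.back C.K w c).length = w.length ∧
      ∀ t ∈ path C.T C.back C.K w c, t.1 < C.n * C.K := by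
    intro w
    induction w with
    | nil =>
      intro _ c
      refine ⟨?_, rfl, fun t ht => absurd ht (by simp [path])⟩
      rw [evalS_nil, hf1]
      rfl
    | cons a w ih =>
      intro hw c
      have ha : a.1 < C.K := hw a (by simp)
      have hrest : ∀ b ∈ w, b.1 < C.K := fun b hb => hw b (by simp [hb])
      obtain ⟨x, s⟩ := a
      cases s
      · have hc' : (act c (l0 x)⁻¹ : ℕ) = C.back c x := (act_letter x ha c).2
        have hp : path C.T C.back C.K ((x, false) :: w) c =
            (C.back c x * C.K + x, false) :: path C.T C.back C.K w (C.back c x) := by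
          show force (C.back c x) (fun c' => (Nat.add (Nat.mul c' C.K) x, false) ::
            path C.T C.back C.K w c') = _
          rw [force_eq]
          rfl
        obtain ⟨e1, e2, e3⟩ := ih hrest (act c (l0 x)⁻¹)
        rw [hc'] at e1 e2 e3
        refine ⟨?_, by rw [hp]; simp [e2], ?_⟩
        · rw [hp, evalS_cons, hfmul, cond_false, hfinv, e1]
          simp only [tprod, evalS_cons, cond_false]
          rw [← hc', hval _ x ha]
        · rw [hp, List.forall_mem_cons]
          exact ⟨by rw [← hc']; exact hidx _ x ha, e3⟩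
      · have hc' : (act c (l0 x) : ℕ) = C.T c x := (act_letter x ha c).1
        have hp : path C.T C.back C.K ((x, true) :: w) c =
            ((c : ℕ) * C.K + x, true) :: path C.T C.back C.K w (C.T c x) := by
          show ((c : ℕ) * C.K + x, true) :: force (C.T c x) _ = _
          rw [force_eq]
          rfl
        obtain ⟨e1, e2, e3⟩ := ih hrest (act c (l0 x))
        rw [hc'] at e1 e2 e3
        refine ⟨?_, by rw [hp]; simp [e2], ?_⟩
        · rw [hp, evalS_cons, hfmul, cond_true, e1]
          simp only [tprod, evalS_cons, cond_true]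
          rw [hval _ x ha]
        · rw [hp, List.forall_mem_cons]
          exact ⟨hidx _ x ha, e3⟩
  have hrk : ∀ k, k < C.nr → C.rels.getD k [] ∈ C.rels := fun k hk => by
    rw [nr_eq] at hk
    rw [List.getD_eq_getElem _ _ hk]
    exact List.getElem_mem hk
  let B : ℕ → A := fun i => if i < C.nr then zA i else val (C.free.getD (i - C.nr) 0)
  have hBz : ∀ k < C.nr, B k = zA k := fun k hk => if_pos hk
  have hd := hC.d_eq
  have hscan : ∀ k < C.nr, ∀ c : Fin C.n,
      tprod val (path C.T C.back C.K (C.rels.getD k []) c) = B k := fun k hk c => by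
    rw [← (hpath _ (hC.relsLt _ (hrk k hk)) c).1, hBz k hk, hfker c _ (hz k hk).1]
    exact ((hz k hk).2 _).symm
  have hoff : off < X ∧ off ≤ bnd := ⟨by norm_num, by norm_num⟩
  have hO : Good bnd C.d C.O := (good_rep hoff.1 C.d).mono hoff.2
  let Vv : ℕ → A := fun i => pv B C.d (C.V i) / pv B C.d C.O
  have hvar : ∀ i, C.rank i < Z.m → C.varB i = true := fun i hi => by
    have h := hC.var _ hi
    rwa [hC.known i hi] at h
  have hgood : ∀ i, C.rank i < Z.m → Good bnd C.d (C.V i) := fun i hi => by
    have h := hvar i hi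
    simp only [Cert.varB, force_eq, Bool.and_eq_true, Nat.beq_eq] at h
    exact good_of_land (by norm_num) h.1
  -- the two sides of a scan through known edges
  have heq : ∀ k, k < C.nr → ∀ c : Fin C.n,
      (∀ t ∈ path C.T C.back C.K (C.rels.getD k []) c, C.rank t.1 < Z.m) →
      pv B C.d (C.lhs k c) / pv B C.d (C.rhs k c) =
        tprod Vv (path C.T C.back C.K (C.rels.getD k []) c) / B k := fun k hk c hin => by
    obtain ⟨-, hlen, -⟩ := hpath _ (hC.relsLt _ (hrk k hk)) c
    have h128 := hC.relsLen _ (hrk k hk)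
    obtain ⟨hg, hv⟩ := sides hO B (path C.T C.back C.K (C.rels.getD k []) c)
      (fun t ht => hgood _ (hin t ht)) (by omega)
    obtain ⟨hu, huv⟩ := pv_unit B (show k < C.d by omega)
    have hle : (path C.T C.back C.K (C.rels.getD k []) c).length * bnd ≤ 128 * bnd :=
      Nat.mul_le_mul_right _ (by omega)
    obtain ⟨-, hrv⟩ := pv_add (β := 128 * bnd) (γ := 1) (by norm_num) B ((hg false).mono hle) hu
    show _ / pv B C.d (sideSum C.V C.O false _ + X ^ k) = _
    rw [hrv, huv, div_mul_eq_div_div]
    exact congrArg (· / B k) hv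
  -- the recorded vectors give the values
  have hV : ∀ i, i < C.n * C.K → C.rank i < Z.m → val i = Vv i := by
    intro i
    induction' hi : C.rank i using Nat.strong_induction_on with r ih generalizing i
    intro hlt hknw
    have hKp : 0 < C.K := hC.K_pos
    have h := hvar i (hi ▸ hknw)
    simp only [Cert.varB, force_eq, Bool.and_eq_true, Nat.beq_eq] at h
    obtain ⟨-, h⟩ := h
    generalize hp : Nat.div (Nat.div (C.J i) 1048576) 4 = p at h
    generalize Nat.mod (Nat.div (C.J i) 1048576) 4 = kind at h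
    have hdiv : i / C.K < C.n := Nat.div_lt_of_lt_mul (by rwa [mul_comm])
    have hmod : i % C.K < C.K := Nat.mod_lt _ hKp
    cases h0 : Nat.beq kind 0 with
    | true =>
      simp only [h0, cond_true, Bool.and_eq_true, Nat.blt_eq, Nat.beq_eq] at h
      obtain ⟨⟨⟨hpos, hc'⟩, hpar⟩, hv⟩ := h
      change C.par (C.T (i / C.K) (i % C.K)) = i at hpar
      change 0 < C.T (i / C.K) (i % C.K) at hpos
      change C.T (i / C.K) (i % C.K) < C.n at hc'
      have hact := (act_letter _ hmod ⟨i / C.K, hdiv⟩).1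
      obtain ⟨h1, -⟩ := htree _ hpos.ne' hc'
      rw [hpar] at h1
      have hone : val i = 1 := by
        simp only [val, dif_pos hdiv, f]
        refine (congrArg ρ (Subtype.ext ?_)).trans (map_one ρ)
        show τ (i / C.K) * l0 (i % C.K) * (τ (act ⟨i / C.K, hdiv⟩ (l0 (i % C.K)) : ℕ))⁻¹ = 1
        rw [hact, hτeq (C.T (i / C.K) (i % C.K)), hpar, if_pos ⟨hpos.ne', h1⟩, mul_inv_cancel]
      rw [hone]
      simp only [Vv, hv, div_self']
    | false =>
      cases h1 : Nat.beq kind 1 with
      | true =>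
        simp only [h0, h1, cond_false, cond_true, Bool.and_eq_true, Nat.blt_eq, Nat.beq_eq] at h
        obtain ⟨⟨⟨hk, hc⟩, hsolo⟩, hlr⟩ := h
        let c : Fin C.n := ⟨_, hc⟩
        have hall : ∀ t ∈ path C.T C.back C.K (C.rels.getD (Nat.mod p 256) []) (c : ℕ),
            C.rank t.1 < Z.m := fun t ht => by
          have := solo_ranks hsolo t ht
          have hr0 : Nat.mod (C.J i) 1048576 = r := hi
          omega
        refine solo_spec (f := val) (f' := Vv) hsolo (fun t ht hr => ?_) ?_
        · exact ih (C.rank t.1) (by rw [← hi]; exact hr) t.1 rfl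
            ((hpath _ (hC.relsLt _ (hrk _ hk)) c).2.2 t ht) (hall t ht)
        · have he := heq _ hk c hall
          rw [show C.lhs _ (c : ℕ) = C.rhs _ (c : ℕ) from hlr, div_self', eq_comm, div_eq_one] at he
          exact (hscan _ hk c).trans he.symm
      | false =>
        simp only [h0, h1, cond_false, Bool.and_eq_true, Nat.blt_eq, Nat.beq_eq] at h
        obtain ⟨⟨hpf, hfree⟩, hv⟩ := h
        have hpd : C.nr + p < C.d := by omega
        obtain ⟨hu, huv⟩ := pv_unit B hpd
        have hv' : C.V i = C.O + X ^ (C.nr + p) := hv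
        simp only [Vv, hv', (pv_add (β := bnd) (γ := 1) (by norm_num) B hO hu).2, huv,
          mul_div_cancel_left]
        show val i = if C.nr + p < C.nr then _ else _
        rw [if_neg (by omega), Nat.add_sub_cancel_left, hfree]
  -- the scans give relations
  have hrel : ∀ k, k < C.nr → ∀ c : Fin C.n,
      (∀ t ∈ path C.T C.back C.K (C.rels.getD k []) c, C.rank t.1 < Z.m) →
      pv B C.d (C.lhs k c) = pv B C.d (C.rhs k c) := fun k hk c hin => by
    have he := heq k hk c hin
    have hsame : tprod Vv (path C.T C.back C.K (C.rels.getD k []) c) =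
        tprod val (path C.T C.back C.K (C.rels.getD k []) c) :=
      congrArg List.prod (List.map_congr_left fun t ht => by
        rw [hV _ ((hpath _ (hC.relsLt _ (hrk k hk)) c).2.2 t ht) (hin t ht)])
    rw [hsame, hscan k hk c, div_self', div_eq_one] at he
    exact he
  have hpairB : ∀ e ∈ Z.gauge, pv B C.d e.1 = pv B C.d e.2 := fun e he => by
    have h := hC.gauge_ok e he
    simp only [Cert.gaugeB, Bool.and_eq_true, Nat.beq_eq] at h
    rw [(pv_extend B (show C.nr ≤ C.d by omega) (good_of_land (by norm_num) h.1)).2,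
      (pv_extend B (show C.nr ≤ C.d by omega) (good_of_land (by norm_num) h.2)).2,
      pv_congr B zA hBz, pv_congr B zA hBz]
    exact hgauge e he
  have hidxB : ∀ l : List (ℕ × ℕ × ℕ), Z.idxB C l = true →
      mixV B C.d (Z.ents C l) = mixV B C.d (flipEnts (Z.ents C l)) := by
    intro l
    induction l with
    | nil => exact fun _ => rfl
    | cons e l ih =>
      intro h
      have h' : (Nat.blt e.2.2 (C.rows.length + Z.gauge.length) && Z.idxB C l) = true := h
      rw [Bool.and_eq_true, Nat.blt_eq] at h'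
      have hside : pv B C.d (Z.pair C e.2.2).1 = pv B C.d (Z.pair C e.2.2).2 := by
        unfold Cone.pair
        by_cases hlt : e.2.2 < C.rows.length
        · rw [(Nat.blt_eq ▸ hlt : Nat.blt e.2.2 C.rows.length = true), cond_true]
          have hrow := hC.row (C.rows.getD e.2.2 (0, 0, 0, 0))
            (by rw [List.getD_eq_getElem _ _ hlt]; exact List.getElem_mem _)
          simp only [Cone.rowB, Cert.rowB, Bool.and_eq_true, Nat.blt_eq, Nat.beq_eq] at hrow
          obtain ⟨⟨⟨⟨hk', hc'⟩, hl'⟩, hr'⟩, hlow⟩ := hrow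
          rw [← hl', ← hr']
          exact hrel _ hk' ⟨_, hc'⟩ (lowerB_spec hlow)
        · rw [show Nat.blt e.2.2 C.rows.length = false from
            Bool.eq_false_iff.mpr fun hb => hlt (Nat.blt_eq ▸ hb), cond_false]
          refine hpairB _ ?_
          rw [Nat.sub_eq, List.getD_eq_getElem _ _ (show e.2.2 - C.rows.length < Z.gauge.length by omega)]
          exact List.getElem_mem _
      have ih' := ih h'.2
      simp only [mixV] at ih' ⊢
      rw [show Z.ents C (e :: l) = (e.1, e.2.1, Z.pair C e.2.2) :: Z.ents C l from rfl]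
      simp only [List.map_cons, List.prod_cons, flipEnts] at ih' ⊢
      rw [hside, ih', mul_comm (pv B C.d _ ^ e.1)]
  let u : A := B Z.u
  have hu : pv B C.d (X ^ Z.u) = u := (pv_unit B hC.u_lt).2
  refine ⟨u, ?_, fun k hk => ?_⟩
  · have h := hC.top
    simp only [Cone.topB, Bool.and_eq_true] at h
    have hlin := linOK_sound C.d B _ h.2
    have h0 := hidxB _ h.1
    simp only [mixV] at hlin h0
    simp only [List.map_cons, List.prod_cons, flipEnts, pow_zero, one_mul, mul_one, pv_zero,
      one_pow] at hlin h0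
    change _ = pv B C.d (X ^ Z.u) ^ _ * _ at hlin
    rw [hu, h0] at hlin
    exact (mul_right_cancel ((one_mul _).trans hlin)).symm
  · have h := hC.field k hk
    simp only [Cone.fieldB, Bool.and_eq_true] at h
    have hlin := linOK_sound C.d B _ h.2
    have h0 := hidxB _ h.1
    simp only [mixV] at hlin h0
    simp only [List.map_cons, List.prod_cons, flipEnts, pow_zero, pow_one, one_mul, mul_one, pv_zero,
      one_pow] at hlin h0
    change pv B C.d (X ^ Z.u) ^ _ * _ = pv B C.d (X ^ k) * _ at hlin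
    rw [hu, (pv_unit B (show k < C.d by omega)).2, h0] at hlin
    rw [← hBz k hk]
    exact (mul_right_cancel hlin).symm

end Cfsg.Agent.CocycleCert
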