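import Cfsg.Agent.CocycleCert.Sound

/-!
Certificates that a map from the preimage of a point stabiliser has a cyclic image of bounded order.
-/

set_option autoImplicit false

namespace Cfsg.Agent.CocycleCert

open Cfsg.Agent.CosetCert (force force_eq)

/-- The extra data. -/
structure Span where
  /-- The field of the generator. -/
  u : ℕ
  /-- The order bound. -/
  N : ℕ
  /-- Relators satisfied by the lifts. -/
  zero : List ℕ
  /-- The exponents of the fields. -/
  mult : List ℕ
  /-- For each field a combination: weights and index of a scan or, past them, of a zero relator. -/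
  combos : List (List (ℕ × ℕ × ℕ))
  /-- The combination for the order. -/
  top : List (ℕ × ℕ × ℕ)

variable (C : Cert) (Z : Span)

/-- The sides named by an index. -/
noncomputable def Span.pair (i : ℕ) : ℕ × ℕ :=
  cond (Nat.blt i C.rows.length) (C.rows.getD i (0, 0, 0, 0)).2.2
    (Nat.pow X (Z.zero.getD (Nat.sub i C.rows.length) 0), 0)

/-- The entries of a combination. -/
noncomputable def Span.ents (l : List (ℕ × ℕ × ℕ)) : List Ent :=
  List.rec (motive := fun _ => List Ent) [] (fun e _ r => (e.1, e.2.1, Z.pair C e.2.2) :: r) l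

/-- The indices are valid. -/
noncomputable def Span.idxB (l : List (ℕ × ℕ × ℕ)) : Bool :=
  List.rec (motive := fun _ => Bool) true
    (fun e _ r => Nat.blt e.2.2 (Nat.add C.rows.length Z.zero.length) && r) l

/-- A field is a power of the generator. -/
noncomputable def Span.fieldB (i : ℕ) : Bool :=
  Z.idxB C (Z.combos.getD i []) &&
    linOK C.d ((0, 1, Nat.pow X i, 0) :: (Z.mult.getD i 0, 0, Nat.pow X Z.u, 0) ::
      Z.ents C (Z.combos.getD i []))

/-- The order of the generator. -/
noncomputable def Span.topB : Bool :=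
  Z.idxB C Z.top && linOK C.d ((0, Z.N, Nat.pow X Z.u, 0) :: Z.ents C Z.top)

/-- All checks succeed. -/
structure Span.Checked : Prop where
  d_eq : C.d = C.nr + C.free.length
  n_pos : 0 < C.n
  K_pos : 0 < C.K
  relsLen : ∀ w ∈ C.rels, w.length ≤ 128
  relsLt : ∀ w ∈ C.rels, ∀ a ∈ w, a.1 < C.K
  free_lt : ∀ i ∈ C.free, i < C.n * C.K
  zero_lt : ∀ k ∈ Z.zero, k < C.nr
  u_lt : Z.u < C.d
  tree : ∀ c, c < C.n → C.treeB c = true
  var : ∀ i, i < C.n * C.K → C.varB i = true
  row : ∀ e ∈ C.rows, C.rowB e = true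
  field : ∀ i, i < C.d → Z.fieldB C i = true
  top : Z.topB C = true

variable {C Z}

theorem cyclic_image (hC : Z.Checked C) {Γ G : Type*} [Group Γ] [Group G] (σ : Γ →* G)
    (hker : σ.ker ≤ Subgroup.center Γ)
    (φ : G →* Equiv.Perm (Fin C.n)) (g : ℕ → G)
    (hT : ∀ x < C.K, ∀ c : Fin C.n, (((φ (g x))⁻¹ c : Fin C.n) : ℕ) = C.T c x)
    (hback : ∀ x < C.K, ∀ c : Fin C.n, ((φ (g x) c : Fin C.n) : ℕ) = C.back c x)
    (hrels : ∀ w ∈ C.rels, evalS g w = 1)
    (S : Subgroup G) (hS : ∀ y : G, φ y ⟨0, hC.n_pos⟩ = ⟨0, hC.n_pos⟩ ↔ y ∈ S)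
    (l0 : ℕ → Γ) (hl0 : ∀ x, σ (l0 x) = g x)
    (hzero : ∀ k ∈ Z.zero, evalS l0 (C.rels.getD k []) = 1)
    (hgen : Subgroup.closure {e | ∃ x < C.K, l0 x = e} = ⊤)
    {A : Type*} [CommGroup A] (ρ : S.comap σ →* A) :
    ∃ u : A, u ^ Z.N = 1 ∧ ∀ p : S.comap σ, ρ p ∈ Subgroup.zpowers u := by
  classical
  -- the right action
  let act : Fin C.n → Γ → Fin C.n := fun c e => (φ (σ e))⁻¹ c
  have act_mul : ∀ c e e', act c (e * e') = act (act c e) e' := fun c e e' => by
    show (φ (σ (e * e')))⁻¹ c = (φ (σ e'))⁻¹ ((φ (σ e))⁻¹ c)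
    rw [map_mul, map_mul, mul_inv_rev, Equiv.Perm.mul_apply]
  have act_one : ∀ c, act c 1 = c := fun c => by
    show (φ (σ 1))⁻¹ c = c
    rw [map_one, map_one, inv_one, Equiv.Perm.one_apply]
  have act_ker : ∀ c z, z ∈ σ.ker → act c z = c := fun c z hz => by
    show (φ (σ z))⁻¹ c = c
    rw [MonoidHom.mem_ker.mp hz, map_one, inv_one, Equiv.Perm.one_apply]
  have act_letter : ∀ x < C.K, ∀ c : Fin C.n, (act c (l0 x) : ℕ) = C.T c x ∧
      (act c (l0 x)⁻¹ : ℕ) = C.back c x := fun x hx c => by
    refine ⟨?_, ?_⟩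
    · show (((φ (σ (l0 x)))⁻¹ c : Fin C.n) : ℕ) = _
      rw [hl0]; exact hT x hx c
    · show (((φ (σ (l0 x)⁻¹))⁻¹ c : Fin C.n) : ℕ) = _
      rw [map_inv, map_inv, inv_inv, hl0]; exact hback x hx c
  let p0 : Fin C.n := ⟨0, hC.n_pos⟩
  -- the transversal
  let τ : ℕ → Γ := fun c => WellFounded.fix (C := fun _ => Γ) Nat.lt_wfRel.wf
    (fun c rec => if h : c ≠ 0 ∧ C.par c / C.K < c then rec _ h.2 * l0 (C.par c % C.K) else 1) c
  have hτeq : ∀ c, τ c = if c ≠ 0 ∧ C.par c / C.K < c then τ (C.par c / C.K) * l0 (C.par c % C.K)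
      else 1 := fun c => by
    show WellFounded.fix _ _ c = _
    rw [WellFounded.fix_eq]
    split_ifs <;> rfl
  have hK : ∀ i, i < C.n * C.K → 0 < C.K := fun i hi => Nat.pos_of_ne_zero fun h => by simp [h] at hi
  have htree : ∀ c, c ≠ 0 → c < C.n → C.par c / C.K < c ∧
      C.T (C.par c / C.K) (C.par c % C.K) = c := fun c h0 hc => by
    have h := hC.tree c hc
    simp only [Cert.treeB, force_eq, Bool.or_eq_true, Bool.and_eq_true, Nat.beq_eq, Nat.blt_eq] at h
    exact h.resolve_left h0
  have hτ : ∀ c : Fin C.n, act p0 (τ c) = c := by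
    rintro ⟨c, hc⟩
    induction c using Nat.strong_induction_on with
    | _ c ih =>
      show act p0 (τ c) = ⟨c, hc⟩
      by_cases h0 : c = 0
      · subst h0
        rw [hτeq, if_neg (by simp)]
        exact (act_one p0).trans rfl
      · obtain ⟨h1, h2⟩ := htree c h0 hc
        have hKpos := hC.K_pos
        rw [hτeq, if_pos ⟨h0, h1⟩, act_mul, ih _ h1 (h1.trans hc)]
        exact Fin.ext ((act_letter _ (Nat.mod_lt _ hKpos) _).1.trans h2)
  -- the cocycle
  have hmem : ∀ (c : Fin C.n) (e : Γ), τ c * e * (τ (act c e))⁻¹ ∈ S.comap σ := fun c e => by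
    rw [Subgroup.mem_comap]
    refine (hS _).1 ?_
    have h1 : act p0 (τ c * e * (τ (act c e))⁻¹) = p0 := by
      rw [act_mul, act_mul, hτ]
      generalize act c e = u
      have h3 : act p0 (τ u * (τ u)⁻¹) = p0 := by rw [mul_inv_cancel, act_one]
      rw [act_mul, hτ] at h3
      exact h3
    have h2 : (φ (σ (τ c * e * (τ (act c e))⁻¹)))⁻¹ p0 = p0 := h1
    exact (Equiv.Perm.inv_eq_iff_eq.mp h2).symm
  let f : Fin C.n → Γ → A := fun c e => ρ ⟨_, hmem c e⟩
  have hfmul : ∀ c e e', f c (e * e') = f c e * f (act c e) e' := fun c e e' => by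
    simp only [f, ← map_mul]
    congr 1
    apply Subtype.ext
    simp only [Subgroup.coe_mul, act_mul]
    group
  have hf1 : ∀ c, f c 1 = 1 := fun c => by
    refine (congrArg ρ (Subtype.ext ?_)).trans (map_one ρ)
    show τ c * 1 * (τ (act c 1))⁻¹ = 1
    rw [act_one, mul_one, mul_inv_cancel]
  have hfinv : ∀ c e, f c e⁻¹ = (f (act c e⁻¹) e)⁻¹ := fun c e => by
    rw [eq_inv_iff_mul_eq_one, ← hfmul, inv_mul_cancel, hf1]
  have hkmem : ∀ z, z ∈ σ.ker → z ∈ S.comap σ := fun z hz => by
    rw [Subgroup.mem_comap, MonoidHom.mem_ker.mp hz]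
    exact one_mem S
  have hfker : ∀ (c : Fin C.n) (z : Γ) (hz : z ∈ σ.ker), f c z = ρ ⟨z, hkmem z hz⟩ := fun c z hz => by
    refine congrArg ρ (Subtype.ext ?_)
    show τ c * z * (τ (act c z))⁻¹ = z
    rw [act_ker c z hz,
      Subgroup.mem_center_iff.mp (hker hz) (τ c), mul_inv_cancel_right]
  let val : ℕ → A := fun i => if h : i / C.K < C.n then f ⟨i / C.K, h⟩ (l0 (i % C.K)) else 1
  have hval : ∀ (c : Fin C.n) x, x < C.K → val ((c : ℕ) * C.K + x) = f c (l0 x) := fun c x hx => by
    have h1 : ((c : ℕ) * C.K + x) / C.K = c := by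
      rw [mul_comm, Nat.mul_add_div (by omega), Nat.div_eq_of_lt hx, Nat.add_zero]
    have h2 : ((c : ℕ) * C.K + x) % C.K = x := Nat.mul_add_mod_of_lt hx
    simp only [val, dif_pos (show ((c : ℕ) * C.K + x) / C.K < C.n by rw [h1]; exact c.2), h2]
    exact congrArg (fun u => f u (l0 x)) (Fin.ext h1)
  have hidx : ∀ (c : Fin C.n) x, x < C.K → (c : ℕ) * C.K + x < C.n * C.K := fun c x hx => by
    have : ((c : ℕ) + 1) * C.K ≤ C.n * C.K := Nat.mul_le_mul_right _ c.2
    rw [Nat.succ_mul] at this
    omega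
  have hpath : ∀ (w : List (ℕ × Bool)), (∀ a ∈ w, a.1 < C.K) → ∀ c : Fin C.n,
      f c (evalS l0 w) = tprod val (path C.T C.back C.K w c) ∧
      (path C.T C.back C.K w c).length = w.length ∧
      ∀ t ∈ path C.T C.back C.K w c, t.1 < C.n * C.K := by
    intro w
    induction w with
    | nil =>
      intro _ c
      refine ⟨?_, rfl, fun t ht => absurd ht (by simp [path])⟩
      rw [evalS_nil, hf1]
      rfl
    | cons a w ih =>
      intro hw c
      have ha : a.1 < C.K := hw a (by simp)
      have hrest : ∀ b ∈ w, b.1 < C.K := fun b hb => hw b (by simp [hb])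
      obtain ⟨x, s⟩ := a
      cases s
      · have hc' : (act c (l0 x)⁻¹ : ℕ) = C.back c x := (act_letter x ha c).2
        have hp : path C.T C.back C.K ((x, false) :: w) c =
            (C.back c x * C.K + x, false) :: path C.T C.back C.K w (C.back c x) := by
          show force (C.back c x) (fun c' => (Nat.add (Nat.mul c' C.K) x, false) ::
            path C.T C.back C.K w c') = _
          rw [force_eq]
          rfl
        obtain ⟨e1, e2, e3⟩ := ih hrest (act c (l0 x)⁻¹)
        rw [hc'] at e1 e2 e3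
        refine ⟨?_, by rw [hp]; simp [e2], ?_⟩
        · rw [hp, evalS_cons, hfmul, cond_false, hfinv, e1]
          simp only [tprod, evalS_cons, cond_false]
          rw [← hc', hval _ x ha]
        · rw [hp, List.forall_mem_cons]
          exact ⟨by rw [← hc']; exact hidx _ x ha, e3⟩
      · have hc' : (act c (l0 x) : ℕ) = C.T c x := (act_letter x ha c).1
        have hp : path C.T C.back C.K ((x, true) :: w) c =
            ((c : ℕ) * C.K + x, true) :: path C.T C.back C.K w (C.T c x) := by
          show ((c : ℕ) * C.K + x, true) :: force (C.T c x) _ = _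
          rw [force_eq]
          rfl
        obtain ⟨e1, e2, e3⟩ := ih hrest (act c (l0 x))
        rw [hc'] at e1 e2 e3
        refine ⟨?_, by rw [hp]; simp [e2], ?_⟩
        · rw [hp, evalS_cons, hfmul, cond_true, e1]
          simp only [tprod, evalS_cons, cond_true]
          rw [hval _ x ha]
        · rw [hp, List.forall_mem_cons]
          exact ⟨hidx _ x ha, e3⟩
  have hrk : ∀ k, k < C.nr → C.rels.getD k [] ∈ C.rels := fun k hk => by
    rw [nr_eq] at hk
    rw [List.getD_eq_getElem _ _ hk]
    exact List.getElem_mem hk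
  let z : ℕ → σ.ker := fun k =>
    if h : k < C.nr then ⟨evalS l0 (C.rels.getD k []), by
      rw [MonoidHom.mem_ker, map_evalS, show (fun x => σ (l0 x)) = g from funext hl0]
      exact hrels _ (hrk k h)⟩
    else 1
  let : CommGroup σ.ker :=
    { (inferInstance : Group σ.ker) with
      mul_comm := fun a b => Subtype.ext (Subgroup.mem_center_iff.mp (hker b.2) a) }
  let ρk : σ.ker →* A := ρ.comp (Subgroup.inclusion hkmem)
  let B : ℕ → A := fun i => if i < C.nr then ρk (z i) else val (C.free.getD (i - C.nr) 0)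
  have hBz : ∀ k < C.nr, B k = ρk (z k) := fun k hk => if_pos hk
  have hd := hC.d_eq
  have hscan : ∀ k < C.nr, ∀ c : Fin C.n,
      tprod val (path C.T C.back C.K (C.rels.getD k []) c) = B k := fun k hk c => by
    rw [← (hpath _ (hC.relsLt _ (hrk k hk)) c).1, hBz k hk]
    have hz : ((z k : σ.ker) : Γ) = evalS l0 (C.rels.getD k []) := by simp only [z, dif_pos hk]
    rw [← hz, hfker c _ (z k).2]
    rfl
  have hoff : off < X ∧ off ≤ bnd := ⟨by norm_num, by norm_num⟩
  have hO : Good bnd C.d C.O := (good_rep hoff.1 C.d).mono hoff.2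
  let Vv : ℕ → A := fun i => pv B C.d (C.V i) / pv B C.d C.O
  have hgood : ∀ i, i < C.n * C.K → Good bnd C.d (C.V i) := fun i hi => by
    have h := hC.var i hi
    simp only [Cert.varB, force_eq, Bool.and_eq_true, Nat.beq_eq] at h
    exact good_of_land (by norm_num) h.1
  have heq : ∀ k, k < C.nr → ∀ c : Fin C.n,
      Good (128 * bnd + 1) C.d (C.lhs k c) ∧ Good (128 * bnd + 1) C.d (C.rhs k c) ∧
      pv B C.d (C.lhs k c) / pv B C.d (C.rhs k c) =
        tprod Vv (path C.T C.back C.K (C.rels.getD k []) c) / B k := fun k hk c => by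
    obtain ⟨-, hlen, hid⟩ := hpath _ (hC.relsLt _ (hrk k hk)) c
    have h128 := hC.relsLen _ (hrk k hk)
    obtain ⟨hg, hv⟩ := sides hO B (path C.T C.back C.K (C.rels.getD k []) c)
      (fun t ht => hgood _ (hid t ht)) (by omega)
    obtain ⟨hu, huv⟩ := pv_unit B (show k < C.d by omega)
    have hle : (path C.T C.back C.K (C.rels.getD k []) c).length * bnd ≤ 128 * bnd :=
      Nat.mul_le_mul_right _ (by omega)
    obtain ⟨hr, hrv⟩ := pv_add (β := 128 * bnd) (γ := 1) (by norm_num) B ((hg false).mono hle) hu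
    refine ⟨((hg true).mono hle).mono (Nat.le_succ _), hr, ?_⟩
    show _ / pv B C.d (sideSum C.V C.O false _ + X ^ k) = _
    rw [hrv, huv, div_mul_eq_div_div]
    exact congrArg (· / B k) hv
  -- the recorded vectors give the values
  have hV : ∀ i, i < C.n * C.K → val i = Vv i := by
    intro i
    induction' hi : C.rank i using Nat.strong_induction_on with r ih generalizing i
    intro hlt
    have hKp : 0 < C.K := hK i hlt
    have h := hC.var i hlt
    simp only [Cert.varB, force_eq, Bool.and_eq_true, Nat.beq_eq] at h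
    obtain ⟨-, h⟩ := h
    generalize hp : Nat.div (Nat.div (C.J i) 1048576) 4 = p at h
    generalize Nat.mod (Nat.div (C.J i) 1048576) 4 = kind at h
    have hdiv : i / C.K < C.n := Nat.div_lt_of_lt_mul (by rwa [mul_comm])
    have hmod : i % C.K < C.K := Nat.mod_lt _ hKp
    cases h0 : Nat.beq kind 0 with
    | true =>
      simp only [h0, cond_true, Bool.and_eq_true, Nat.blt_eq, Nat.beq_eq] at h
      obtain ⟨⟨⟨hpos, hc'⟩, hpar⟩, hv⟩ := h
      change C.par (C.T (i / C.K) (i % C.K)) = i at hpar
      change 0 < C.T (i / C.K) (i % C.K) at hpos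
      change C.T (i / C.K) (i % C.K) < C.n at hc'
      have hact := (act_letter _ hmod ⟨i / C.K, hdiv⟩).1
      obtain ⟨h1, -⟩ := htree _ hpos.ne' hc'
      rw [hpar] at h1
      have hone : val i = 1 := by
        simp only [val, dif_pos hdiv, f]
        refine (congrArg ρ (Subtype.ext ?_)).trans (map_one ρ)
        show τ (i / C.K) * l0 (i % C.K) * (τ (act ⟨i / C.K, hdiv⟩ (l0 (i % C.K)) : ℕ))⁻¹ = 1
        rw [hact, hτeq (C.T (i / C.K) (i % C.K)), hpar, if_pos ⟨hpos.ne', h1⟩, mul_inv_cancel]
      rw [hone]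
      simp only [Vv, hv, div_self']
    | false =>
      cases h1 : Nat.beq kind 1 with
      | true =>
        simp only [h0, h1, cond_false, cond_true, Bool.and_eq_true, Nat.blt_eq, Nat.beq_eq] at h
        obtain ⟨⟨⟨hk, hc⟩, hsolo⟩, hlr⟩ := h
        let c : Fin C.n := ⟨_, hc⟩
        refine solo_spec (f := val) (f' := Vv) hsolo (fun t ht hr => ?_) ?_
        · exact ih (C.rank t.1) (by rw [← hi]; exact hr) t.1 rfl
            ((hpath _ (hC.relsLt _ (hrk _ hk)) c).2.2 t ht)
        · have he := (heq _ hk c).2.2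
          rw [show C.lhs _ (c : ℕ) = C.rhs _ (c : ℕ) from hlr, div_self', eq_comm, div_eq_one] at he
          exact (hscan _ hk c).trans he.symm
      | false =>
        simp only [h0, h1, cond_false, Bool.and_eq_true, Nat.blt_eq, Nat.beq_eq] at h
        obtain ⟨⟨hpf, hfree⟩, hv⟩ := h
        have hpd : C.nr + p < C.d := by omega
        obtain ⟨hu, huv⟩ := pv_unit B hpd
        have hv' : C.V i = C.O + X ^ (C.nr + p) := hv
        simp only [Vv, hv', (pv_add (β := bnd) (γ := 1) (by norm_num) B hO hu).2, huv,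
          mul_div_cancel_left]
        show val i = if C.nr + p < C.nr then _ else _
        rw [if_neg (by omega), Nat.add_sub_cancel_left, hfree]
  -- the scans give relations
  have hrel : ∀ k, k < C.nr → ∀ c : Fin C.n, pv B C.d (C.lhs k c) = pv B C.d (C.rhs k c) :=
    fun k hk c => by
      have he := (heq k hk c).2.2
      have hsame : tprod Vv (path C.T C.back C.K (C.rels.getD k []) c) =
          tprod val (path C.T C.back C.K (C.rels.getD k []) c) :=
        congrArg List.prod (List.map_congr_left fun t ht => by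
          rw [hV _ ((hpath _ (hC.relsLt _ (hrk k hk)) c).2.2 t ht)])
      rw [hsame, hscan k hk c, div_self', div_eq_one] at he
      exact he
  -- every field is a power of the generator
  have hB1 : ∀ k ∈ Z.zero, B k = 1 := fun k hk => by
    rw [hBz k (hC.zero_lt k hk)]
    have : z k = 1 := Subtype.ext (by
      simp only [z, dif_pos (hC.zero_lt k hk)]
      exact hzero k hk)
    rw [this, map_one]
  have hidxB : ∀ l : List (ℕ × ℕ × ℕ), Z.idxB C l = true →
      mixV B C.d (Z.ents C l) = mixV B C.d (flipEnts (Z.ents C l)) := by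
    intro l
    induction l with
    | nil => exact fun _ => rfl
    | cons e l ih =>
      intro h
      have h' : (Nat.blt e.2.2 (C.rows.length + Z.zero.length) && Z.idxB C l) = true := h
      rw [Bool.and_eq_true, Nat.blt_eq] at h'
      have hside : pv B C.d (Z.pair C e.2.2).1 = pv B C.d (Z.pair C e.2.2).2 := by
        unfold Span.pair
        by_cases hlt : e.2.2 < C.rows.length
        · rw [(Nat.blt_eq ▸ hlt : Nat.blt e.2.2 C.rows.length = true), cond_true]
          have hrow := hC.row (C.rows.getD e.2.2 (0, 0, 0, 0))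
            (by rw [List.getD_eq_getElem _ _ hlt]; exact List.getElem_mem _)
          simp only [Cert.rowB, Bool.and_eq_true, Nat.blt_eq, Nat.beq_eq] at hrow
          obtain ⟨⟨⟨hk', hc'⟩, hl'⟩, hr'⟩ := hrow
          rw [← hl', ← hr']
          exact hrel _ hk' ⟨_, hc'⟩
        · rw [show Nat.blt e.2.2 C.rows.length = false from
            Bool.eq_false_iff.mpr fun hb => hlt (Nat.blt_eq ▸ hb), cond_false]
          have hj : e.2.2 - C.rows.length < Z.zero.length := by omega
          have hmem : Z.zero.getD (e.2.2 - C.rows.length) 0 ∈ Z.zero := by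
            rw [List.getD_eq_getElem _ _ hj]; exact List.getElem_mem _
          show pv B C.d (X ^ Z.zero.getD (e.2.2 - C.rows.length) 0) = pv B C.d 0
          have hlt' : Z.zero.getD (e.2.2 - C.rows.length) 0 < C.d := by
            have := hC.zero_lt _ hmem
            omega
          rw [(pv_unit B hlt').2, pv_zero, hB1 _ hmem]
      have ih' := ih h'.2
      simp only [mixV] at ih' ⊢
      rw [show Z.ents C (e :: l) = (e.1, e.2.1, Z.pair C e.2.2) :: Z.ents C l from rfl]
      simp only [List.map_cons, List.prod_cons, flipEnts] at ih' ⊢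
      rw [hside, ih', mul_comm (pv B C.d _ ^ e.1)]
  let u : A := B Z.u
  have hu : pv B C.d (X ^ Z.u) = u := (pv_unit B hC.u_lt).2
  have hfield : ∀ i < C.d, B i ∈ Subgroup.zpowers u := fun i hi => by
    have h := hC.field i hi
    simp only [Span.fieldB, Bool.and_eq_true] at h
    have hlin := linOK_sound C.d B _ h.2
    have h0 := hidxB _ h.1
    simp only [mixV] at hlin h0
    simp only [List.map_cons, List.prod_cons, flipEnts, pow_zero, pow_one, one_mul, mul_one, pv_zero,
      one_pow] at hlin h0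
    change pv B C.d (X ^ Z.u) ^ _ * _ = pv B C.d (X ^ i) * _ at hlin
    rw [hu, (pv_unit B hi).2, h0] at hlin
    exact ⟨(Z.mult.getD i 0 : ℤ), by simpa using mul_right_cancel hlin⟩
  have hN : u ^ Z.N = 1 := by
    have h := hC.top
    simp only [Span.topB, Bool.and_eq_true] at h
    have hlin := linOK_sound C.d B _ h.2
    have h0 := hidxB _ h.1
    simp only [mixV] at hlin h0
    simp only [List.map_cons, List.prod_cons, flipEnts, pow_zero, one_mul, mul_one, pv_zero,
      one_pow] at hlin h0
    change _ = pv B C.d (X ^ Z.u) ^ _ * _ at hlin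
    rw [hu, h0] at hlin
    exact (mul_right_cancel ((one_mul _).trans hlin)).symm
  have hpv : ∀ (d : ℕ) (p : ℕ) (B' : ℕ → A), (∀ i < d, B' i ∈ Subgroup.zpowers u) →
      pv B' d p ∈ Subgroup.zpowers u := by
    intro d
    induction d with
    | zero => exact fun _ _ _ => one_mem _
    | succ d ih =>
      intro p B' h
      exact mul_mem (pow_mem (h 0 (by omega)) _) (ih _ _ fun i hi => h _ (by omega))
  have hedge : ∀ i < C.n * C.K, val i ∈ Subgroup.zpowers u := fun i hi => by
    rw [hV i hi]
    exact div_mem (hpv _ _ _ hfield) (hpv _ _ _ hfield)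
  refine ⟨u, hN, ?_⟩
  have hall : ∀ e : Γ, ∀ c, f c e ∈ Subgroup.zpowers u := by
    intro e
    have he : e ∈ Subgroup.closure {e | ∃ x < C.K, l0 x = e} := hgen ▸ Subgroup.mem_top e
    induction he using Subgroup.closure_induction with
    | mem e h =>
      obtain ⟨x, hx, rfl⟩ := h
      intro c
      rw [← hval c x hx]
      exact hedge _ (hidx c x hx)
    | one => intro c; rw [hf1]; exact one_mem _
    | mul e e' _ _ h h' => intro c; rw [hfmul]; exact mul_mem (h c) (h' _)
    | inv e _ h => intro c; rw [hfinv]; exact inv_mem (h _)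
  rintro ⟨p, hp⟩
  have hfix : act p0 p = p0 := by
    show (φ (σ p))⁻¹ p0 = p0
    rw [Equiv.Perm.inv_eq_iff_eq]
    exact ((hS _).2 hp).symm
  have hτ0 : τ (p0 : ℕ) = 1 := by rw [hτeq, if_neg (by simp [p0])]
  have hfp : f p0 p = ρ ⟨p, hp⟩ := congrArg ρ (Subtype.ext (by
    show τ p0 * p * (τ (act p0 p))⁻¹ = p
    rw [hfix, hτ0, one_mul, inv_one, mul_one]))
  rw [← hfp]
  exact hall p p0

end Cfsg.Agent.CocycleCert
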