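import Mathlib

/-!
Vectors of small natural numbers packed into one number, in fields of width 24, and their values in a
commutative group.
-/

set_option autoImplicit false

namespace Cfsg.Agent.CocycleCert

/-- The field modulus. -/
abbrev X : ℕ := 16777216

theorem X_eq : X = 2 ^ 24 := by norm_num

/-- The value of a packed vector. -/
def pv {A : Type*} [CommGroup A] : (ℕ → A) → ℕ → ℕ → A
  | _, 0, _ => 1
  | B, d + 1, p => B 0 ^ (p % X) * pv (fun i => B (i + 1)) d (p / X)

/-- A vector with `d` fields, all at most `β`. -/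
def Good (β : ℕ) : ℕ → ℕ → Prop
  | 0, p => p = 0
  | d + 1, p => p % X ≤ β ∧ Good β d (p / X)

/-- The vector with `d` equal fields. -/
def rep (v : ℕ) : ℕ → ℕ
  | 0 => 0
  | d + 1 => v + rep v d * X

theorem rep_mod {v : ℕ} (hv : v < X) (d : ℕ) : rep v (d + 1) % X = v := by
  rw [rep, Nat.add_mul_mod_self_right, Nat.mod_eq_of_lt hv]

theorem rep_div {v : ℕ} (hv : v < X) (d : ℕ) : rep v (d + 1) / X = rep v d := by
  rw [rep, Nat.add_mul_div_right _ _ (by norm_num), Nat.div_eq_of_lt hv, Nat.zero_add]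

theorem good_rep {v : ℕ} (hv : v < X) : ∀ d, Good v d (rep v d)
  | 0 => rfl
  | d + 1 => ⟨(rep_mod hv d).le, by rw [rep_div hv]; exact good_rep hv d⟩

theorem good_of_land {β : ℕ} (hβ : β < X) :
    ∀ {d p : ℕ}, Nat.land p (rep β d) = p → Good β d p
  | 0, p, h => by
    have h' : p &&& 0 = p := h
    rw [Nat.and_zero] at h'
    exact h'.symm
  | d + 1, p, h => by
    have h' : p &&& rep β (d + 1) = p := h
    constructor
    · conv_lhs => rw [← h']
      rw [X_eq, Nat.and_mod_two_pow, ← X_eq, rep_mod hβ]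
      exact Nat.and_le_right
    · refine good_of_land hβ ?_
      show p / X &&& rep β d = p / X
      conv_rhs => rw [← h']
      rw [X_eq, ← Nat.shiftRight_eq_div_pow, ← Nat.shiftRight_eq_div_pow,
        Nat.shiftRight_and_distrib, Nat.shiftRight_eq_div_pow (rep β (d + 1)), ← X_eq, rep_div hβ]

theorem Good.mono {β γ : ℕ} (h : β ≤ γ) : ∀ {d p : ℕ}, Good β d p → Good γ d p
  | 0, _, hp => hp
  | _ + 1, _, hp => ⟨hp.1.trans h, hp.2.mono h⟩

theorem good_zero (β : ℕ) : ∀ d, Good β d 0
  | 0 => rfl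
  | d + 1 => ⟨by simp, by simpa using good_zero β d⟩

variable {A : Type*} [CommGroup A]

theorem pv_zero : ∀ (d : ℕ) (B : ℕ → A), pv B d 0 = 1
  | 0, _ => rfl
  | d + 1, B => by simp [pv, pv_zero d]

theorem pv_add {β γ : ℕ} (hβγ : β + γ < X) : ∀ {d : ℕ} (B : ℕ → A) {p q : ℕ}, Good β d p →
    Good γ d q → Good (β + γ) d (p + q) ∧ pv B d (p + q) = pv B d p * pv B d q
  | 0, _, p, q, hp, hq => by
    have hp' : p = 0 := hp
    have hq' : q = 0 := hq
    subst hp' hq'
    exact ⟨rfl, (one_mul 1).symm⟩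
  | d + 1, B, p, q, hp, hq => by
    have h1 := hp.1
    have h2 := hq.1
    have hm : (p + q) % X = p % X + q % X := by
      rw [Nat.add_mod, Nat.mod_eq_of_lt (show p % X + q % X < X by omega)]
    have hd : (p + q) / X = p / X + q / X := by
      rw [Nat.add_div (by norm_num : 0 < X), if_neg (show ¬X ≤ p % X + q % X by omega), Nat.add_zero]
    obtain ⟨hg, hv⟩ := pv_add hβγ (fun i => B (i + 1)) hp.2 hq.2
    refine ⟨⟨by rw [hm]; omega, by rw [hd]; exact hg⟩, ?_⟩
    simp only [pv]
    rw [hm, hd, hv, pow_add]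
    exact mul_mul_mul_comm _ _ _ _

theorem pv_unit : ∀ {d k : ℕ} (B : ℕ → A), k < d →
    Good 1 d (X ^ k) ∧ pv B d (X ^ k) = B k
  | 0, _, _, h => absurd h (by omega)
  | d + 1, 0, B, _ => by
    have h1 : (1 : ℕ) % X = 1 := by norm_num
    have h2 : (1 : ℕ) / X = 0 := by norm_num
    refine ⟨⟨by rw [pow_zero, h1], by rw [pow_zero, h2]; exact good_zero 1 d⟩, ?_⟩
    simp only [pv, pow_zero, h1, h2, pv_zero, pow_one, mul_one]
  | d + 1, k + 1, B, h => by
    have h1 : X ^ (k + 1) % X = 0 := by rw [pow_succ, Nat.mul_mod_left]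
    have h2 : X ^ (k + 1) / X = X ^ k := by rw [pow_succ, Nat.mul_div_cancel _ (by norm_num)]
    obtain ⟨hg, hv⟩ := pv_unit (fun i => B (i + 1)) (show k < d by omega)
    refine ⟨⟨by rw [h1]; exact Nat.zero_le 1, by rw [h2]; exact hg⟩, ?_⟩
    simp only [pv, h1, h2, hv, pow_zero, one_mul]

theorem pv_extend {β : ℕ} : ∀ {n d : ℕ} (B : ℕ → A) {p : ℕ}, n ≤ d → Good β n p →
    Good β d p ∧ pv B d p = pv B n p
  | 0, d, B, p, _, hp => by
    have hp' : p = 0 := hp
    subst hp'
    exact ⟨good_zero β d, pv_zero d B⟩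
  | n + 1, 0, _, _, h, _ => absurd h (by omega)
  | n + 1, d + 1, B, p, h, hp => by
    obtain ⟨hg, hv⟩ := pv_extend (fun i => B (i + 1)) (show n ≤ d by omega) hp.2
    exact ⟨⟨hp.1, hg⟩, by simp only [pv, hv]⟩

theorem pv_congr : ∀ {d p : ℕ} (B B' : ℕ → A), (∀ i < d, B i = B' i) → pv B d p = pv B' d p
  | 0, _, _, _, _ => rfl
  | d + 1, p, B, B', h => by
    simp only [pv]
    rw [h 0 (by omega), pv_congr (fun i => B (i + 1)) (fun i => B' (i + 1)) fun i hi => h _ (by omega)]

theorem map_pv {A' : Type*} [CommGroup A'] (f : A →* A') : ∀ (d p : ℕ) (B : ℕ → A),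
    f (pv B d p) = pv (fun i => f (B i)) d p
  | 0, _, _ => map_one f
  | d + 1, p, B => by simp only [pv, map_mul, map_pow, map_pv f d]

/-- A weighted entry `(cp, cn, l, r)` of a linear combination of the differences `l - r`. -/
abbrev Ent : Type := ℕ × ℕ × ℕ × ℕ

/-- The value of the positive side. -/
def mixV (B : ℕ → A) (d : ℕ) (es : List Ent) : A :=
  (es.map fun e => pv B d e.2.2.1 ^ e.1 * pv B d e.2.2.2 ^ e.2.1).prod

/-- The first field of a combination. -/
noncomputable def mixD (es : List Ent) : ℕ :=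
  List.rec (motive := fun _ => ℕ) 0
    (fun e _ r => Nat.add (Nat.add (Nat.mul e.1 (Nat.mod e.2.2.1 X))
      (Nat.mul e.2.1 (Nat.mod e.2.2.2 X))) r) es

/-- Drop the first field. -/
noncomputable def dropField (es : List Ent) : List Ent :=
  List.rec (motive := fun _ => List Ent) []
    (fun e _ r => (e.1, e.2.1, Nat.div e.2.2.1 X, Nat.div e.2.2.2 X) :: r) es

/-- Exchange the two sides. -/
noncomputable def flipEnts (es : List Ent) : List Ent :=
  List.rec (motive := fun _ => List Ent) [] (fun e _ r => (e.2.1, e.1, e.2.2.1, e.2.2.2) :: r) es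

theorem mixV_succ (B : ℕ → A) (d : ℕ) : ∀ es : List Ent,
    mixV B (d + 1) es = B 0 ^ mixD es * mixV (fun i => B (i + 1)) d (dropField es)
  | [] => by simp [mixV, mixD, dropField]
  | e :: es => by
    have ih := mixV_succ B d es
    simp only [mixV] at ih ⊢
    rw [show dropField (e :: es) = (e.1, e.2.1, e.2.2.1 / X, e.2.2.2 / X) :: dropField es from rfl,
      show mixD (e :: es) = e.1 * (e.2.2.1 % X) + e.2.1 * (e.2.2.2 % X) + mixD es from rfl,
      List.map_cons, List.map_cons, List.prod_cons, List.prod_cons, ih]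
    simp only [pv, mul_pow, ← pow_mul, pow_add]
    rw [mul_comm (e.2.2.1 % X) e.1, mul_comm (e.2.2.2 % X) e.2.1]
    simp only [mul_assoc, mul_left_comm]

/-- The two sides of a combination agree field by field. -/
noncomputable def linOK : ℕ → List Ent → Bool :=
  fun d => Nat.rec (motive := fun _ => List Ent → Bool) (fun _ => true)
    (fun _ ih es => Nat.beq (mixD es) (mixD (flipEnts es)) && ih (dropField es)) d

theorem flip_drop : ∀ es : List Ent, flipEnts (dropField es) = dropField (flipEnts es)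
  | [] => rfl
  | e :: es => by
    show (_ :: flipEnts (dropField es)) = _ :: dropField (flipEnts es)
    rw [flip_drop es]

theorem linOK_sound : ∀ (d : ℕ) (B : ℕ → A) (es : List Ent), linOK d es = true →
    mixV B d es = mixV B d (flipEnts es)
  | 0, B, es, _ => by
    have h : ∀ l : List Ent, mixV B 0 l = 1 := fun l =>
      List.prod_eq_one fun a ha => by
        obtain ⟨e, -, rfl⟩ := List.mem_map.mp ha
        simp [pv]
    rw [h, h]
  | d + 1, B, es, h => by
    have h' : (Nat.beq (mixD es) (mixD (flipEnts es)) && linOK d (dropField es)) = true := h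
    rw [Bool.and_eq_true] at h'
    rw [mixV_succ, mixV_succ, Nat.eq_of_beq_eq_true h'.1,
      linOK_sound d (fun i => B (i + 1)) (dropField es) h'.2, flip_drop]

end Cfsg.Agent.CocycleCert
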