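import Cfsg.Agent.CosetCert.Basic
import Cfsg.Agent.CocycleCert.Field

/-!
Certificates that the relators of a group hold for suitable lifts in a central extension.

A coset table assigns to a lifted generator and a coset an element of the preimage of the subgroup; its image in
an abelian group is a cocycle. The value at every edge is recorded as an integer vector over a basis made of the
relator values and a few free edge values (fields shifted by `8192`), justified by the scan in which it is the only
edge of its rank or above. Some further scans then force the relator values to be those of a change of lifts.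
-/

set_option autoImplicit false

namespace Cfsg.Agent.CocycleCert

open Cfsg.Agent.CosetCert (force allFrom)

/-- The data. -/
structure Cert where
  /-- The number of points. -/
  n : ℕ
  /-- The number of generators. -/
  K : ℕ
  /-- The number of fields. -/
  d : ℕ
  /-- The images of the points. -/
  T : ℕ → ℕ → ℕ
  /-- The preimages of the points. -/
  back : ℕ → ℕ → ℕ
  /-- The edge reaching a point in the tree. -/
  par : ℕ → ℕ
  /-- The vector of an edge. -/
  V : ℕ → ℕ
  /-- The justification of an edge. -/
  J : ℕ → ℕ
  /-- The relators. -/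
  rels : List (List (ℕ × Bool))
  /-- The free edges. -/
  free : List ℕ
  /-- The change of lifts of each generator. -/
  shift : List ℕ
  /-- Some scans with the two sides of their equations. -/
  rows : List (ℕ × ℕ × ℕ × ℕ)
  /-- For each relator a combination of scans: weights and index. -/
  combos : List (List (ℕ × ℕ × ℕ))

/-- The offset. -/
abbrev off : ℕ := 8192

/-- The bound on the fields. -/
abbrev bnd : ℕ := 16383

/-- Edges, with signs, met by a signed word. -/
noncomputable def path (T back : ℕ → ℕ → ℕ) (K : ℕ) (w : List (ℕ × Bool)) : ℕ → List (ℕ × Bool) :=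
  List.rec (motive := fun _ => ℕ → List (ℕ × Bool)) (fun _ => [])
    (fun a _ ih c =>
      Bool.rec (motive := fun _ => List (ℕ × Bool))
        (force (back c a.1) fun c' => (Nat.add (Nat.mul c' K) a.1, false) :: ih c')
        ((Nat.add (Nat.mul c K) a.1, true) :: force (T c a.1) ih) a.2) w

/-- The sum over the entries, the vector for sign `s` and the offset vector for the other sign. -/
noncomputable def sideSum (V : ℕ → ℕ) (O : ℕ) (s : Bool) (l : List (ℕ × Bool)) : ℕ :=
  List.rec (motive := fun _ => ℕ) 0
    (fun t _ r => Nat.add (Bool.rec (motive := fun _ => ℕ)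
      (Bool.rec (motive := fun _ => ℕ) (V t.1) O s)
      (Bool.rec (motive := fun _ => ℕ) O (V t.1) s) t.2) r) l

/-- All entries are of rank below `r`. -/
noncomputable def lowerB (R : ℕ → ℕ) (r : ℕ) (l : List (ℕ × Bool)) : Bool :=
  List.rec (motive := fun _ => Bool) true (fun t _ ih => Nat.blt (R t.1) r && ih) l

/-- The edge `i` is met exactly once and every other entry is of rank below `r`. -/
noncomputable def solo (R : ℕ → ℕ) (i r : ℕ) (l : List (ℕ × Bool)) : Bool :=
  List.rec (motive := fun _ => Bool) false
    (fun t tail ih => Bool.rec (motive := fun _ => Bool) (Nat.blt (R t.1) r && ih) (lowerB R r tail)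
      (Nat.beq t.1 i)) l

variable (C : Cert)

/-- The rank of an edge. -/
noncomputable def Cert.rank (i : ℕ) : ℕ := Nat.mod (C.J i) 1048576

/-- The number of relators. -/
noncomputable def Cert.nr : ℕ := List.rec (motive := fun _ => ℕ) 0 (fun _ _ r => Nat.succ r) C.rels

/-- The offset vector. -/
def Cert.O : ℕ := rep off C.d

/-- The positive side of a scan. -/
noncomputable def Cert.lhs (k c : ℕ) : ℕ :=
  sideSum C.V C.O true (path C.T C.back C.K (C.rels.getD k []) c)

/-- The negative side of a scan. -/
noncomputable def Cert.rhs (k c : ℕ) : ℕ :=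
  Nat.add (sideSum C.V C.O false (path C.T C.back C.K (C.rels.getD k []) c)) (Nat.pow X k)

/-- The tree reaches a point. -/
noncomputable def Cert.treeB (c : ℕ) : Bool :=
  Nat.beq c 0 || force (C.par c) fun e => Nat.blt (Nat.div e C.K) c &&
    Nat.beq (C.T (Nat.div e C.K) (Nat.mod e C.K)) c

/-- An edge is justified. -/
noncomputable def Cert.varB (i : ℕ) : Bool :=
  force (C.J i) fun j => force (Nat.mod j 1048576) fun r => force (Nat.div j 1048576) fun q =>
    force (Nat.mod q 4) fun kind => force (Nat.div q 4) fun p => force (C.V i) fun v =>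
    Nat.beq (Nat.land v (rep bnd C.d)) v &&
    cond (Nat.beq kind 0)
      (force (C.T (Nat.div i C.K) (Nat.mod i C.K)) fun c' =>
        Nat.blt 0 c' && Nat.blt c' C.n && Nat.beq (C.par c') i && Nat.beq v C.O)
      (cond (Nat.beq kind 1)
        (force (Nat.mod p 256) fun k => force (Nat.div p 256) fun c =>
          Nat.blt k C.nr && Nat.blt c C.n && solo C.rank i r (path C.T C.back C.K (C.rels.getD k []) c) &&
            Nat.beq (C.lhs k c) (C.rhs k c))
        (Nat.blt p C.free.length && Nat.beq (C.free.getD p 0) i &&
          Nat.beq v (Nat.add C.O (Nat.pow X (Nat.add C.nr p)))))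

/-- A recorded scan is correct. -/
noncomputable def Cert.rowB (e : ℕ × ℕ × ℕ × ℕ) : Bool :=
  Nat.blt e.1 C.nr && Nat.blt e.2.1 C.n && Nat.beq (C.lhs e.1 e.2.1) e.2.2.1 &&
    Nat.beq (C.rhs e.1 e.2.1) e.2.2.2

/-- The entries of a combination. -/
noncomputable def Cert.mixEnts (l : List (ℕ × ℕ × ℕ)) : List Ent :=
  List.rec (motive := fun _ => List Ent) []
    (fun e _ r => (e.1, e.2.1, (C.rows.getD e.2.2 (0, 0, 0, 0)).2.2) :: r) l

/-- The entry of the relator value after the change of lifts. -/
noncomputable def Cert.target (k : ℕ) : Ent :=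
  (0, 1, Nat.add (Nat.pow X k)
      (sideSum (fun x => C.shift.getD x 0) (rep off C.nr) false (C.rels.getD k [])),
    sideSum (fun x => C.shift.getD x 0) (rep off C.nr) true (C.rels.getD k []))

/-- A combination is correct. -/
noncomputable def Cert.comboB (k : ℕ) : Bool :=
  List.rec (motive := fun _ => Bool) true (fun e _ r => Nat.blt e.2.2 C.rows.length && r)
      (C.combos.getD k []) &&
    linOK C.d (C.target k :: C.mixEnts (C.combos.getD k []))

/-- A change of lifts has small fields. -/
noncomputable def Cert.shiftB (x : ℕ) : Bool :=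
  Nat.beq (Nat.land (C.shift.getD x 0) (rep bnd C.nr)) (C.shift.getD x 0)

/-- All checks succeed. -/
structure Cert.Checked : Prop where
  d_eq : C.d = C.nr + C.free.length
  n_pos : 0 < C.n
  K_pos : 0 < C.K
  relsLen : ∀ w ∈ C.rels, w.length ≤ 128
  relsLt : ∀ w ∈ C.rels, ∀ a ∈ w, a.1 < C.K
  free_lt : ∀ i ∈ C.free, i < C.n * C.K
  tree : ∀ c, c < C.n → C.treeB c = true
  var : ∀ i, i < C.n * C.K → C.varB i = true
  row : ∀ e ∈ C.rows, C.rowB e = true
  combo : ∀ k, k < C.nr → C.comboB k = true
  shift_ok : ∀ x, x < C.K → C.shiftB x = true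

end Cfsg.Agent.CocycleCert
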