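import Cfsg.Agent.CocycleCert.Defs

/-!
Soundness of the certificates: some lifts of the generators satisfy all relators.
-/

set_option autoImplicit false

namespace Cfsg.Agent.CocycleCert

open Cfsg.Agent.CosetCert (force force_eq)

/-- A signed word in a family of elements. -/
def evalS {M : Type*} [Group M] (g : ℕ → M) (w : List (ℕ × Bool)) : M :=
  (w.map fun a => cond a.2 (g a.1) (g a.1)⁻¹).prod

theorem evalS_nil {M : Type*} [Group M] (g : ℕ → M) : evalS g [] = 1 := rfl

theorem evalS_cons {M : Type*} [Group M] (g : ℕ → M) (a : ℕ × Bool) (w : List (ℕ × Bool)) :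
    evalS g (a :: w) = cond a.2 (g a.1) (g a.1)⁻¹ * evalS g w := by
  simp [evalS]

theorem map_evalS {M N : Type*} [Group M] [Group N] (f : M →* N) (g : ℕ → M) (w : List (ℕ × Bool)) :
    f (evalS g w) = evalS (fun x => f (g x)) w := by
  induction w with
  | nil => simp [evalS]
  | cons a w ih =>
    rw [evalS_cons, evalS_cons, map_mul, ih]
    congr 1
    cases a.2 <;> simp

section Terms

variable {A : Type*} [CommGroup A]

/-- The product of the values along a list of signed edges. -/
def tprod (f : ℕ → A) (l : List (ℕ × Bool)) : A := evalS f l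

theorem solo_spec {R : ℕ → ℕ} {i r : ℕ} {f f' : ℕ → A} : ∀ {l : List (ℕ × Bool)}, solo R i r l = true →
    (∀ t ∈ l, R t.1 < r → f t.1 = f' t.1) → tprod f l = tprod f' l → f i = f' i
  | [], h, _, _ => absurd h (by simp [solo])
  | t :: l, h, hlow, he => by
    have hsame : ∀ l' : List (ℕ × Bool), (∀ u ∈ l', f u.1 = f' u.1) → tprod f l' = tprod f' l' :=
      fun l' hl' => congrArg List.prod (List.map_congr_left fun u hu => by rw [hl' u hu])
    have hlower : ∀ l' : List (ℕ × Bool), lowerB R r l' = true → ∀ u ∈ l', R u.1 < r := by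
      intro l'
      induction l' with
      | nil => intro _ u hu; exact absurd hu (by simp)
      | cons u l' ih =>
        intro hb v hv
        have hb' : (Nat.blt (R u.1) r && lowerB R r l') = true := hb
        rw [Bool.and_eq_true, Nat.blt_eq] at hb'
        rcases List.mem_cons.mp hv with rfl | hv
        exacts [hb'.1, ih hb'.2 v hv]
    have h' : (Bool.rec (motive := fun _ => Bool) (Nat.blt (R t.1) r && solo R i r l) (lowerB R r l)
      (Nat.beq t.1 i) : Bool) = true := h
    simp only [tprod, evalS_cons] at he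
    cases hb : Nat.beq t.1 i with
    | false =>
      simp only [hb, Bool.and_eq_true, Nat.blt_eq] at h'
      rw [hlow t (by simp) h'.1, mul_right_inj] at he
      exact solo_spec h'.2 (fun u hu => hlow u (by simp [hu])) he
    | true =>
      simp only [hb] at h'
      have e : tprod f l = tprod f' l := hsame l fun u hu => hlow u (by simp [hu]) (hlower l h' u hu)
      simp only [tprod] at e
      rw [e, mul_left_inj] at he
      have hi : t.1 = i := Nat.eq_of_beq_eq_true hb
      rw [hi] at he
      cases ht : t.2 <;> simp only [ht, cond_false, cond_true, inv_inj] at he <;> exact he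

theorem sides {d : ℕ} {V : ℕ → ℕ} {O : ℕ} (hO : Good bnd d O) (B : ℕ → A) :
    ∀ (l : List (ℕ × Bool)), (∀ t ∈ l, Good bnd d (V t.1)) → l.length ≤ 128 →
      (∀ s, Good (l.length * bnd) d (sideSum V O s l)) ∧
      pv B d (sideSum V O true l) / pv B d (sideSum V O false l) =
        tprod (fun i => pv B d (V i) / pv B d O) l
  | [], _, _ => ⟨fun _ => by simpa [sideSum] using good_zero 0 d, by simp [sideSum, tprod, evalS_nil]⟩
  | t :: l, hl, hlen => by
    simp only [List.length_cons] at hlen ⊢
    obtain ⟨hg, hv⟩ := sides hO B l (fun u hu => hl u (by simp [hu])) (by omega)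
    have hb : bnd + l.length * bnd < X := by
      have : l.length * bnd ≤ 127 * bnd := Nat.mul_le_mul_right _ (by omega)
      show bnd + l.length * bnd < 16777216
      have : bnd = 16383 := rfl
      omega
    have hstep : ∀ s, sideSum V O s (t :: l) =
        cond t.2 (cond s (V t.1) O) (cond s O (V t.1)) + sideSum V O s l := fun s => by
      obtain ⟨i, b⟩ := t
      cases b <;> cases s <;> rfl
    have hterm : ∀ s, Good bnd d (cond t.2 (cond s (V t.1) O) (cond s O (V t.1))) := fun s => by
      have := hl t (by simp)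
      cases t.2 <;> cases s <;> assumption
    refine ⟨fun s => ?_, ?_⟩
    · rw [hstep, show (l.length + 1) * bnd = bnd + l.length * bnd by ring]
      exact (pv_add hb B (hterm s) (hg s)).1
    · rw [hstep, hstep, (pv_add hb B (hterm true) (hg true)).2, (pv_add hb B (hterm false) (hg false)).2,
        mul_div_mul_comm, hv]
      simp only [tprod, evalS_cons]
      congr 1
      cases t.2 <;> simp

end Terms

section Main

variable {C : Cert}

theorem nr_eq : C.nr = C.rels.length := by
  unfold Cert.nr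
  induction C.rels with
  | nil => rfl
  | cons a l ih => exact congrArg Nat.succ ih

theorem exists_lifts (hC : C.Checked) {Γ G : Type*} [Group Γ] [Group G] (σ : Γ →* G)
    (hsurj : Function.Surjective σ) (hker : σ.ker ≤ Subgroup.center Γ)
    (φ : G →* Equiv.Perm (Fin C.n)) (g : ℕ → G)
    (hT : ∀ x < C.K, ∀ c : Fin C.n, (((φ (g x))⁻¹ c : Fin C.n) : ℕ) = C.T c x)
    (hback : ∀ x < C.K, ∀ c : Fin C.n, ((φ (g x) c : Fin C.n) : ℕ) = C.back c x)
    (hrels : ∀ w ∈ C.rels, evalS g w = 1)
    (S : Subgroup G) (hS : ∀ y : G, φ y ⟨0, hC.n_pos⟩ = ⟨0, hC.n_pos⟩ → y ∈ S)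
    {A : Type*} [CommGroup A] (ρ : S.comap σ →* A)
    (hρ : ∀ (z : Γ) (hz : z ∈ S.comap σ), z ∈ σ.ker → ρ ⟨z, hz⟩ = 1 → z = 1) :
    ∃ l : ℕ → Γ, (∀ x, σ (l x) = g x) ∧ ∀ w ∈ C.rels, evalS l w = 1 := by
  classical
  let l0 : ℕ → Γ := fun x => Function.surjInv hsurj (g x)
  have hl0 : ∀ x, σ (l0 x) = g x := fun x => Function.surjInv_eq hsurj _
  -- the right action
  let act : Fin C.n → Γ → Fin C.n := fun c e => (φ (σ e))⁻¹ c
  have act_mul : ∀ c e e', act c (e * e') = act (act c e) e' := fun c e e' => by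
    show (φ (σ (e * e')))⁻¹ c = (φ (σ e'))⁻¹ ((φ (σ e))⁻¹ c)
    rw [map_mul, map_mul, mul_inv_rev, Equiv.Perm.mul_apply]
  have act_one : ∀ c, act c 1 = c := fun c => by
    show (φ (σ 1))⁻¹ c = c
    rw [map_one, map_one, inv_one, Equiv.Perm.one_apply]
  have act_ker : ∀ c z, z ∈ σ.ker → act c z = c := fun c z hz => by
    show (φ (σ z))⁻¹ c = c
    rw [MonoidHom.mem_ker.mp hz, map_one, inv_one, Equiv.Perm.one_apply]
  have act_letter : ∀ x < C.K, ∀ c : Fin C.n, (act c (l0 x) : ℕ) = C.T c x ∧
      (act c (l0 x)⁻¹ : ℕ) = C.back c x := fun x hx c => by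
    refine ⟨?_, ?_⟩
    · show (((φ (σ (l0 x)))⁻¹ c : Fin C.n) : ℕ) = _
      rw [hl0]; exact hT x hx c
    · show (((φ (σ (l0 x)⁻¹))⁻¹ c : Fin C.n) : ℕ) = _
      rw [map_inv, map_inv, inv_inv, hl0]; exact hback x hx c
  let p0 : Fin C.n := ⟨0, hC.n_pos⟩
  -- the transversal
  let τ : ℕ → Γ := fun c => WellFounded.fix (C := fun _ => Γ) Nat.lt_wfRel.wf
    (fun c rec => if h : c ≠ 0 ∧ C.par c / C.K < c then rec _ h.2 * l0 (C.par c % C.K) else 1) c
  have hτeq : ∀ c, τ c = if c ≠ 0 ∧ C.par c / C.K < c then τ (C.par c / C.K) * l0 (C.par c % C.K)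
      else 1 := fun c => by
    show WellFounded.fix _ _ c = _
    rw [WellFounded.fix_eq]
    split_ifs <;> rfl
  have hK : ∀ i, i < C.n * C.K → 0 < C.K := fun i hi => Nat.pos_of_ne_zero fun h => by simp [h] at hi
  have htree : ∀ c, c ≠ 0 → c < C.n → C.par c / C.K < c ∧
      C.T (C.par c / C.K) (C.par c % C.K) = c := fun c h0 hc => by
    have h := hC.tree c hc
    simp only [Cert.treeB, force_eq, Bool.or_eq_true, Bool.and_eq_true, Nat.beq_eq, Nat.blt_eq] at h
    exact h.resolve_left h0
  have hτ : ∀ c : Fin C.n, act p0 (τ c) = c := by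
    rintro ⟨c, hc⟩
    induction c using Nat.strong_induction_on with
    | _ c ih =>
      show act p0 (τ c) = ⟨c, hc⟩
      by_cases h0 : c = 0
      · subst h0
        rw [hτeq, if_neg (by simp)]
        exact (act_one p0).trans rfl
      · obtain ⟨h1, h2⟩ := htree c h0 hc
        have hKpos := hC.K_pos
        rw [hτeq, if_pos ⟨h0, h1⟩, act_mul, ih _ h1 (h1.trans hc)]
        exact Fin.ext ((act_letter _ (Nat.mod_lt _ hKpos) _).1.trans h2)
  -- the cocycle
  have hmem : ∀ (c : Fin C.n) (e : Γ), τ c * e * (τ (act c e))⁻¹ ∈ S.comap σ := fun c e => by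
    rw [Subgroup.mem_comap]
    refine hS _ ?_
    have h1 : act p0 (τ c * e * (τ (act c e))⁻¹) = p0 := by
      rw [act_mul, act_mul, hτ]
      generalize act c e = u
      have h3 : act p0 (τ u * (τ u)⁻¹) = p0 := by rw [mul_inv_cancel, act_one]
      rw [act_mul, hτ] at h3
      exact h3
    have h2 : (φ (σ (τ c * e * (τ (act c e))⁻¹)))⁻¹ p0 = p0 := h1
    exact (Equiv.Perm.inv_eq_iff_eq.mp h2).symm
  let f : Fin C.n → Γ → A := fun c e => ρ ⟨_, hmem c e⟩
  have hfmul : ∀ c e e', f c (e * e') = f c e * f (act c e) e' := fun c e e' => by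
    simp only [f, ← map_mul]
    congr 1
    apply Subtype.ext
    simp only [Subgroup.coe_mul, act_mul]
    group
  have hf1 : ∀ c, f c 1 = 1 := fun c => by
    refine (congrArg ρ (Subtype.ext ?_)).trans (map_one ρ)
    show τ c * 1 * (τ (act c 1))⁻¹ = 1
    rw [act_one, mul_one, mul_inv_cancel]
  have hfinv : ∀ c e, f c e⁻¹ = (f (act c e⁻¹) e)⁻¹ := fun c e => by
    rw [eq_inv_iff_mul_eq_one, ← hfmul, inv_mul_cancel, hf1]
  have hkmem : ∀ z, z ∈ σ.ker → z ∈ S.comap σ := fun z hz => by
    rw [Subgroup.mem_comap, MonoidHom.mem_ker.mp hz]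
    exact one_mem S
  have hfker : ∀ (c : Fin C.n) (z : Γ) (hz : z ∈ σ.ker), f c z = ρ ⟨z, hkmem z hz⟩ := fun c z hz => by
    refine congrArg ρ (Subtype.ext ?_)
    show τ c * z * (τ (act c z))⁻¹ = z
    rw [act_ker c z hz,
      Subgroup.mem_center_iff.mp (hker hz) (τ c), mul_inv_cancel_right]
  let val : ℕ → A := fun i => if h : i / C.K < C.n then f ⟨i / C.K, h⟩ (l0 (i % C.K)) else 1
  have hval : ∀ (c : Fin C.n) x, x < C.K → val ((c : ℕ) * C.K + x) = f c (l0 x) := fun c x hx => by
    have h1 : ((c : ℕ) * C.K + x) / C.K = c := by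
      rw [mul_comm, Nat.mul_add_div (by omega), Nat.div_eq_of_lt hx, Nat.add_zero]
    have h2 : ((c : ℕ) * C.K + x) % C.K = x := Nat.mul_add_mod_of_lt hx
    simp only [val, dif_pos (show ((c : ℕ) * C.K + x) / C.K < C.n by rw [h1]; exact c.2), h2]
    exact congrArg (fun u => f u (l0 x)) (Fin.ext h1)
  have hidx : ∀ (c : Fin C.n) x, x < C.K → (c : ℕ) * C.K + x < C.n * C.K := fun c x hx => by
    have : ((c : ℕ) + 1) * C.K ≤ C.n * C.K := Nat.mul_le_mul_right _ c.2
    rw [Nat.succ_mul] at this
    omega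
  have hpath : ∀ (w : List (ℕ × Bool)), (∀ a ∈ w, a.1 < C.K) → ∀ c : Fin C.n,
      f c (evalS l0 w) = tprod val (path C.T C.back C.K w c) ∧
      (path C.T C.back C.K w c).length = w.length ∧
      ∀ t ∈ path C.T C.back C.K w c, t.1 < C.n * C.K := by
    intro w
    induction w with
    | nil =>
      intro _ c
      refine ⟨?_, rfl, fun t ht => absurd ht (by simp [path])⟩
      rw [evalS_nil, hf1]
      rfl
    | cons a w ih =>
      intro hw c
      have ha : a.1 < C.K := hw a (by simp)
      have hrest : ∀ b ∈ w, b.1 < C.K := fun b hb => hw b (by simp [hb])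
      obtain ⟨x, s⟩ := a
      cases s
      · have hc' : (act c (l0 x)⁻¹ : ℕ) = C.back c x := (act_letter x ha c).2
        have hp : path C.T C.back C.K ((x, false) :: w) c =
            (C.back c x * C.K + x, false) :: path C.T C.back C.K w (C.back c x) := by
          show force (C.back c x) (fun c' => (Nat.add (Nat.mul c' C.K) x, false) ::
            path C.T C.back C.K w c') = _
          rw [force_eq]
          rfl
        obtain ⟨e1, e2, e3⟩ := ih hrest (act c (l0 x)⁻¹)
        rw [hc'] at e1 e2 e3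
        refine ⟨?_, by rw [hp]; simp [e2], ?_⟩
        · rw [hp, evalS_cons, hfmul, cond_false, hfinv, e1]
          simp only [tprod, evalS_cons, cond_false]
          rw [← hc', hval _ x ha]
        · rw [hp, List.forall_mem_cons]
          exact ⟨by rw [← hc']; exact hidx _ x ha, e3⟩
      · have hc' : (act c (l0 x) : ℕ) = C.T c x := (act_letter x ha c).1
        have hp : path C.T C.back C.K ((x, true) :: w) c =
            ((c : ℕ) * C.K + x, true) :: path C.T C.back C.K w (C.T c x) := by
          show ((c : ℕ) * C.K + x, true) :: force (C.T c x) _ = _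
          rw [force_eq]
          rfl
        obtain ⟨e1, e2, e3⟩ := ih hrest (act c (l0 x))
        rw [hc'] at e1 e2 e3
        refine ⟨?_, by rw [hp]; simp [e2], ?_⟩
        · rw [hp, evalS_cons, hfmul, cond_true, e1]
          simp only [tprod, evalS_cons, cond_true]
          rw [hval _ x ha]
        · rw [hp, List.forall_mem_cons]
          exact ⟨hidx _ x ha, e3⟩
  have hrk : ∀ k, k < C.nr → C.rels.getD k [] ∈ C.rels := fun k hk => by
    rw [nr_eq] at hk
    rw [List.getD_eq_getElem _ _ hk]
    exact List.getElem_mem hk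
  let z : ℕ → σ.ker := fun k =>
    if h : k < C.nr then ⟨evalS l0 (C.rels.getD k []), by
      rw [MonoidHom.mem_ker, map_evalS, show (fun x => σ (l0 x)) = g from funext hl0]
      exact hrels _ (hrk k h)⟩
    else 1
  letI : CommGroup σ.ker :=
    { (inferInstance : Group σ.ker) with
      mul_comm := fun a b => Subtype.ext (Subgroup.mem_center_iff.mp (hker b.2) a) }
  let ρk : σ.ker →* A := ρ.comp (Subgroup.inclusion hkmem)
  have hρk : ∀ y : σ.ker, ρk y = 1 → y = 1 := fun y hy => Subtype.ext (hρ y (hkmem y y.2) y.2 hy)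
  let B : ℕ → A := fun i => if i < C.nr then ρk (z i) else val (C.free.getD (i - C.nr) 0)
  have hBz : ∀ k < C.nr, B k = ρk (z k) := fun k hk => if_pos hk
  have hd := hC.d_eq
  have hscan : ∀ k < C.nr, ∀ c : Fin C.n,
      tprod val (path C.T C.back C.K (C.rels.getD k []) c) = B k := fun k hk c => by
    rw [← (hpath _ (hC.relsLt _ (hrk k hk)) c).1, hBz k hk]
    have hz : ((z k : σ.ker) : Γ) = evalS l0 (C.rels.getD k []) := by simp only [z, dif_pos hk]
    rw [← hz, hfker c _ (z k).2]
    rfl
  have hoff : off < X ∧ off ≤ bnd := ⟨by norm_num, by norm_num⟩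
  have hO : Good bnd C.d C.O := (good_rep hoff.1 C.d).mono hoff.2
  let Vv : ℕ → A := fun i => pv B C.d (C.V i) / pv B C.d C.O
  have hgood : ∀ i, i < C.n * C.K → Good bnd C.d (C.V i) := fun i hi => by
    have h := hC.var i hi
    simp only [Cert.varB, force_eq, Bool.and_eq_true, Nat.beq_eq] at h
    exact good_of_land (by norm_num) h.1
  have heq : ∀ k, k < C.nr → ∀ c : Fin C.n,
      Good (128 * bnd + 1) C.d (C.lhs k c) ∧ Good (128 * bnd + 1) C.d (C.rhs k c) ∧
      pv B C.d (C.lhs k c) / pv B C.d (C.rhs k c) =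
        tprod Vv (path C.T C.back C.K (C.rels.getD k []) c) / B k := fun k hk c => by
    obtain ⟨-, hlen, hid⟩ := hpath _ (hC.relsLt _ (hrk k hk)) c
    have h128 := hC.relsLen _ (hrk k hk)
    obtain ⟨hg, hv⟩ := sides hO B (path C.T C.back C.K (C.rels.getD k []) c)
      (fun t ht => hgood _ (hid t ht)) (by omega)
    obtain ⟨hu, huv⟩ := pv_unit B (show k < C.d by omega)
    have hle : (path C.T C.back C.K (C.rels.getD k []) c).length * bnd ≤ 128 * bnd :=
      Nat.mul_le_mul_right _ (by omega)
    obtain ⟨hr, hrv⟩ := pv_add (β := 128 * bnd) (γ := 1) (by norm_num) B ((hg false).mono hle) hu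
    refine ⟨((hg true).mono hle).mono (Nat.le_succ _), hr, ?_⟩
    show _ / pv B C.d (sideSum C.V C.O false _ + X ^ k) = _
    rw [hrv, huv, div_mul_eq_div_div]
    exact congrArg (· / B k) hv
  -- the recorded vectors give the values
  have hV : ∀ i, i < C.n * C.K → val i = Vv i := by
    intro i
    induction' hi : C.rank i using Nat.strong_induction_on with r ih generalizing i
    intro hlt
    have hKp : 0 < C.K := hK i hlt
    have h := hC.var i hlt
    simp only [Cert.varB, force_eq, Bool.and_eq_true, Nat.beq_eq] at h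
    obtain ⟨-, h⟩ := h
    generalize hp : Nat.div (Nat.div (C.J i) 1048576) 4 = p at h
    generalize Nat.mod (Nat.div (C.J i) 1048576) 4 = kind at h
    have hdiv : i / C.K < C.n := Nat.div_lt_of_lt_mul (by rwa [mul_comm])
    have hmod : i % C.K < C.K := Nat.mod_lt _ hKp
    cases h0 : Nat.beq kind 0 with
    | true =>
      simp only [h0, cond_true, Bool.and_eq_true, Nat.blt_eq, Nat.beq_eq] at h
      obtain ⟨⟨⟨hpos, hc'⟩, hpar⟩, hv⟩ := h
      change C.par (C.T (i / C.K) (i % C.K)) = i at hpar
      change 0 < C.T (i / C.K) (i % C.K) at hpos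
      change C.T (i / C.K) (i % C.K) < C.n at hc'
      have hact := (act_letter _ hmod ⟨i / C.K, hdiv⟩).1
      obtain ⟨h1, -⟩ := htree _ hpos.ne' hc'
      rw [hpar] at h1
      have hone : val i = 1 := by
        simp only [val, dif_pos hdiv, f]
        refine (congrArg ρ (Subtype.ext ?_)).trans (map_one ρ)
        show τ (i / C.K) * l0 (i % C.K) * (τ (act ⟨i / C.K, hdiv⟩ (l0 (i % C.K)) : ℕ))⁻¹ = 1
        rw [hact, hτeq (C.T (i / C.K) (i % C.K)), hpar, if_pos ⟨hpos.ne', h1⟩, mul_inv_cancel]
      rw [hone]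
      simp only [Vv, hv, div_self']
    | false =>
      cases h1 : Nat.beq kind 1 with
      | true =>
        simp only [h0, h1, cond_false, cond_true, Bool.and_eq_true, Nat.blt_eq, Nat.beq_eq] at h
        obtain ⟨⟨⟨hk, hc⟩, hsolo⟩, hlr⟩ := h
        let c : Fin C.n := ⟨_, hc⟩
        refine solo_spec (f := val) (f' := Vv) hsolo (fun t ht hr => ?_) ?_
        · exact ih (C.rank t.1) (by rw [← hi]; exact hr) t.1 rfl
            ((hpath _ (hC.relsLt _ (hrk _ hk)) c).2.2 t ht)
        · have he := (heq _ hk c).2.2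
          rw [show C.lhs _ (c : ℕ) = C.rhs _ (c : ℕ) from hlr, div_self', eq_comm, div_eq_one] at he
          exact (hscan _ hk c).trans he.symm
      | false =>
        simp only [h0, h1, cond_false, Bool.and_eq_true, Nat.blt_eq, Nat.beq_eq] at h
        obtain ⟨⟨hpf, hfree⟩, hv⟩ := h
        have hpd : C.nr + p < C.d := by omega
        obtain ⟨hu, huv⟩ := pv_unit B hpd
        have hv' : C.V i = C.O + X ^ (C.nr + p) := hv
        simp only [Vv, hv', (pv_add (β := bnd) (γ := 1) (by norm_num) B hO hu).2, huv,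
          mul_div_cancel_left]
        show val i = if C.nr + p < C.nr then _ else _
        rw [if_neg (by omega), Nat.add_sub_cancel_left, hfree]
  -- the scans give relations
  have hrel : ∀ k, k < C.nr → ∀ c : Fin C.n, pv B C.d (C.lhs k c) = pv B C.d (C.rhs k c) :=
    fun k hk c => by
      have he := (heq k hk c).2.2
      have hsame : tprod Vv (path C.T C.back C.K (C.rels.getD k []) c) =
          tprod val (path C.T C.back C.K (C.rels.getD k []) c) :=
        congrArg List.prod (List.map_congr_left fun t ht => by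
          rw [hV _ ((hpath _ (hC.relsLt _ (hrk k hk)) c).2.2 t ht)])
      rw [hsame, hscan k hk c, div_self', div_eq_one] at he
      exact he
  -- the change of lifts
  have hOn : Good bnd C.nr (rep off C.nr) := (good_rep hoff.1 C.nr).mono hoff.2
  have hsh : ∀ x < C.K, Good bnd C.nr (C.shift.getD x 0) := fun x hx =>
    good_of_land (by norm_num) (Nat.eq_of_beq_eq_true (hC.shift_ok x hx))
  let a : ℕ → σ.ker := fun x => pv z C.nr (C.shift.getD x 0) / pv z C.nr (rep off C.nr)
  refine ⟨fun x => l0 x * ((a x : Γ))⁻¹, fun x => ?_, fun w hw => ?_⟩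
  · rw [map_mul, map_inv, MonoidHom.mem_ker.mp (a x).2, hl0, inv_one, mul_one]
  obtain ⟨k, hk, rfl⟩ := List.getElem_of_mem hw
  rw [← nr_eq] at hk
  have hwk : C.rels.getD k [] = C.rels[k] := List.getD_eq_getElem _ _ _
  rw [← hwk]
  set w := C.rels.getD k [] with hwdef
  have hwlt := hC.relsLt w (hrk k hk)
  have h128 := hC.relsLen w (hrk k hk)
  -- the value of the combination
  have hcombo := hC.combo k hk
  simp only [Cert.comboB, Bool.and_eq_true] at hcombo
  have hlin := linOK_sound C.d B _ hcombo.2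
  have hmix : ∀ (l : List (ℕ × ℕ × ℕ)),
      (List.rec (motive := fun _ => Bool) true (fun e _ r => Nat.blt e.2.2 C.rows.length && r) l) = true →
      mixV B C.d (C.mixEnts l) = mixV B C.d (flipEnts (C.mixEnts l)) := by
    intro l
    induction l with
    | nil => exact fun _ => rfl
    | cons e l ih =>
      intro h
      have h' : (Nat.blt e.2.2 C.rows.length && List.rec (motive := fun _ => Bool) true
        (fun e _ r => Nat.blt e.2.2 C.rows.length && r) l) = true := h
      rw [Bool.and_eq_true, Nat.blt_eq] at h'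
      have ih' := ih h'.2
      simp only [mixV] at ih' ⊢
      rw [show C.mixEnts (e :: l) = (e.1, e.2.1, (C.rows.getD e.2.2 (0, 0, 0, 0)).2.2) :: C.mixEnts l
        from rfl]
      simp only [List.map_cons, List.prod_cons, flipEnts] at ih' ⊢
      have hrow := hC.row (C.rows.getD e.2.2 (0, 0, 0, 0))
        (by rw [List.getD_eq_getElem _ _ h'.1]; exact List.getElem_mem _)
      simp only [Cert.rowB, Bool.and_eq_true, Nat.blt_eq, Nat.beq_eq] at hrow
      obtain ⟨⟨⟨hk', hc'⟩, hl'⟩, hr'⟩ := hrow
      have := hrel _ hk' ⟨_, hc'⟩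
      rw [hl', hr'] at this
      rw [this, ih', mul_comm (pv B C.d _ ^ e.1)]
  have hT : pv B C.d (C.target k).2.2.2 = pv B C.d (C.target k).2.2.1 := by
    have h0 := hmix _ hcombo.1
    simp only [mixV] at hlin h0
    simp only [List.map_cons, List.prod_cons, flipEnts] at hlin h0
    rw [show (C.target k).1 = 0 from rfl, show (C.target k).2.1 = 1 from rfl] at hlin
    simp only [pow_zero, pow_one, one_mul, mul_one] at hlin
    rw [h0] at hlin
    exact mul_right_cancel hlin
  -- read the combination in the kernel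
  let V' : ℕ → ℕ := fun x => C.shift.getD x 0
  have hside := sides hOn z w (V := V') (fun t ht => hsh _ (hwlt t ht)) h128
  have hle : C.nr ≤ C.d := by omega
  have hpush : ∀ p, Good (w.length * bnd) C.nr p → pv B C.d p = ρk (pv z C.nr p) := fun p hp => by
    rw [(pv_extend B hle hp).2, map_pv ρk]
    exact pv_congr _ _ hBz
  obtain ⟨hu, huv⟩ := pv_unit B (show k < C.d by omega)
  have hgf : Good (128 * bnd) C.d (sideSum V' (rep off C.nr) false w) :=
    ((pv_extend B hle (hside.1 false)).1).mono (Nat.mul_le_mul_right _ h128)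
  change pv B C.d (sideSum V' (rep off C.nr) true w) =
    pv B C.d (X ^ k + sideSum V' (rep off C.nr) false w) at hT
  rw [(pv_add (β := 1) (γ := 128 * bnd) (by norm_num) B hu hgf).2, huv, hBz k hk,
    hpush _ (hside.1 true), hpush _ (hside.1 false), ← map_mul] at hT
  have hzk : tprod a w = z k := by
    rw [← hside.2, div_eq_iff_eq_mul]
    have : ρk (pv z C.nr (sideSum V' (rep off C.nr) true w) /
        (z k * pv z C.nr (sideSum V' (rep off C.nr) false w))) = 1 := by
      rw [map_div, hT, div_self']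
    exact div_eq_one.mp (hρk _ this)
  -- evaluate the changed lifts
  have hev : ∀ w' : List (ℕ × Bool),
      evalS (fun x => l0 x * ((a x : Γ))⁻¹) w' = evalS l0 w' * ((tprod a w' : σ.ker) : Γ)⁻¹ := by
    intro w'
    induction w' with
    | nil => simp [tprod, evalS_nil]
    | cons b w' ih =>
      simp only [tprod, evalS_cons] at ih ⊢
      rw [ih, Subgroup.coe_mul, mul_inv_rev]
      have hc : ∀ (y : σ.ker) (u : Γ), u * (y : Γ) = (y : Γ) * u := fun y u =>
        Subgroup.mem_center_iff.mp (hker y.2) u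
      have hci : ∀ (y : σ.ker) (u : Γ), u * ((y : Γ))⁻¹ = ((y : Γ))⁻¹ * u := fun y u => hc y⁻¹ u
      cases b.2
      · simp only [cond_false, mul_inv_rev, inv_inv, Subgroup.coe_inv]
        calc (a b.1 : Γ) * (l0 b.1)⁻¹ * (evalS l0 w' * ((evalS a w' : σ.ker) : Γ)⁻¹)
            = (l0 b.1)⁻¹ * ((a b.1 : Γ) * (evalS l0 w' * ((evalS a w' : σ.ker) : Γ)⁻¹)) := by
              rw [← hc, mul_assoc]
          _ = (l0 b.1)⁻¹ * (evalS l0 w' * ((evalS a w' : σ.ker) : Γ)⁻¹ * (a b.1 : Γ)) := by rw [hc]
          _ = _ := by group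
      · simp only [cond_true]
        calc l0 b.1 * ((a b.1 : Γ))⁻¹ * (evalS l0 w' * ((evalS a w' : σ.ker) : Γ)⁻¹)
            = l0 b.1 * (((a b.1 : Γ))⁻¹ * (evalS l0 w' * ((evalS a w' : σ.ker) : Γ)⁻¹)) := by
              rw [mul_assoc]
          _ = l0 b.1 * (evalS l0 w' * ((evalS a w' : σ.ker) : Γ)⁻¹ * ((a b.1 : Γ))⁻¹) := by
              rw [hci (a b.1) (evalS l0 w' * _)]
          _ = _ := by group
  rw [hev, hzk, mul_inv_eq_one]
  simp only [z, dif_pos hk, w]

end Main

end Cfsg.Agent.CocycleCert
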