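import Cfsg.Agent.CocycleCert.Sound

/-!
Certificates that every map from the preimage of a point stabiliser into a group of exponent two is trivial.

The values at the edges are recorded as bit vectors over a basis made of the relator values and a few free edge
values; a vector is justified by a scan in which its edge is the only one of its rank or above.
-/

set_option autoImplicit false

namespace Cfsg.Agent.CocycleCert

open Cfsg.Agent.CosetCert (force force_eq)

/-- The data. -/
structure Cert2 where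
  /-- The number of points. -/
  n : ℕ
  /-- The number of generators. -/
  K : ℕ
  /-- The number of fields. -/
  d : ℕ
  /-- The images of the points. -/
  T : ℕ → ℕ → ℕ
  /-- The preimages of the points. -/
  back : ℕ → ℕ → ℕ
  /-- The edge reaching a point in the tree. -/
  par : ℕ → ℕ
  /-- The bits of an edge. -/
  V : ℕ → ℕ
  /-- The justification of an edge. -/
  J : ℕ → ℕ
  /-- The relators. -/
  rels : List (List (ℕ × Bool))
  /-- The free edges. -/
  free : List ℕ
  /-- Relators whose values are trivial. -/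
  zero : List ℕ
  /-- Some scans. -/
  rows : List (ℕ × ℕ)
  /-- For each field some rows, or past them trivial relators, with that sum. -/
  combos : List (List ℕ)

variable (C : Cert2)

/-- The sum of the bits along signed edges. -/
noncomputable def xsum (V : ℕ → ℕ) (l : List (ℕ × Bool)) : ℕ :=
  List.rec (motive := fun _ => ℕ) 0 (fun t _ r => Nat.xor (V t.1) r) l

/-- The rank of an edge. -/
noncomputable def Cert2.rank (i : ℕ) : ℕ := Nat.mod (C.J i) 1048576

/-- The number of relators. -/
noncomputable def Cert2.nr : ℕ := List.rec (motive := fun _ => ℕ) 0 (fun _ _ r => Nat.succ r) C.rels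

/-- The sum along a scan. -/
noncomputable def Cert2.scan (k c : ℕ) : ℕ := xsum C.V (path C.T C.back C.K (C.rels.getD k []) c)

/-- The tree reaches a point. -/
noncomputable def Cert2.treeB (c : ℕ) : Bool :=
  Nat.beq c 0 || force (C.par c) fun e => Nat.blt (Nat.div e C.K) c &&
    Nat.beq (C.T (Nat.div e C.K) (Nat.mod e C.K)) c

/-- An edge is justified. -/
noncomputable def Cert2.varB (i : ℕ) : Bool :=
  force (C.J i) fun j => force (Nat.mod j 1048576) fun r => force (Nat.div j 1048576) fun q =>
    force (Nat.mod q 4) fun kind => force (Nat.div q 4) fun p =>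
    cond (Nat.beq kind 0)
      (force (C.T (Nat.div i C.K) (Nat.mod i C.K)) fun c' =>
        Nat.blt 0 c' && Nat.blt c' C.n && Nat.beq (C.par c') i && Nat.beq (C.V i) 0)
      (cond (Nat.beq kind 1)
        (force (Nat.mod p 256) fun k => force (Nat.div p 256) fun c =>
          Nat.blt k C.nr && Nat.blt c C.n && solo C.rank i r (path C.T C.back C.K (C.rels.getD k []) c) &&
            Nat.beq (C.scan k c) (Nat.pow 2 k))
        (Nat.blt p C.free.length && Nat.beq (C.free.getD p 0) i &&
          Nat.beq (C.V i) (Nat.pow 2 (Nat.add C.nr p))))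

/-- The bits named by an index. -/
noncomputable def Cert2.rowVal (j : ℕ) : ℕ :=
  cond (Nat.blt j C.rows.length)
    (Nat.xor (C.scan (C.rows.getD j (0, 0)).1 (C.rows.getD j (0, 0)).2) (Nat.pow 2 (C.rows.getD j (0, 0)).1))
    (Nat.pow 2 (C.zero.getD (Nat.sub j C.rows.length) 0))

/-- A field is a sum of rows. -/
noncomputable def Cert2.comboB (i : ℕ) : Bool :=
  (C.combos.getD i []).all (fun j => Nat.blt j (Nat.add C.rows.length C.zero.length)) &&
    Nat.beq ((C.combos.getD i []).foldr (fun j r => Nat.xor (C.rowVal j) r) 0) (Nat.pow 2 i)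

/-- All checks succeed. -/
structure Cert2.Checked : Prop where
  d_eq : C.d = C.nr + C.free.length
  n_pos : 0 < C.n
  K_pos : 0 < C.K
  relsLt : ∀ w ∈ C.rels, ∀ a ∈ w, a.1 < C.K
  rows_lt : ∀ e ∈ C.rows, e.1 < C.nr ∧ e.2 < C.n
  zero_lt : ∀ k ∈ C.zero, k < C.nr
  tree : ∀ c, c < C.n → C.treeB c = true
  var : ∀ i, i < C.n * C.K → C.varB i = true
  combo : ∀ i, i < C.d → C.comboB i = true

section Bits

variable {A : Type*} [CommGroup A]

/-- The product of the fields whose bit is set. -/
def pb (B : ℕ → A) : ℕ → ℕ → A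
  | 0, _ => 1
  | d + 1, v => pb B d v * if v.testBit d then B d else 1

theorem pb_zero (B : ℕ → A) : ∀ d, pb B d 0 = 1
  | 0 => rfl
  | d + 1 => by simp [pb, pb_zero B d]

theorem pb_xor (hA : ∀ a : A, a * a = 1) (B : ℕ → A) : ∀ d v w, pb B d (v ^^^ w) = pb B d v * pb B d w
  | 0, _, _ => (mul_one 1).symm
  | d + 1, v, w => by
    simp only [pb, pb_xor hA B d v w, Nat.testBit_xor]
    cases v.testBit d <;> cases w.testBit d <;>
      simp only [Bool.xor_false, Bool.false_xor, Bool.xor_true, Bool.not_false, Bool.not_true, if_true,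
        Bool.false_eq_true, if_false, mul_one]
    · rw [mul_assoc]
    · rw [mul_assoc, mul_assoc, mul_comm (B d)]
    · rw [mul_mul_mul_comm, hA, mul_one]

theorem pb_two_pow (B : ℕ → A) : ∀ d k, k < d → pb B d (2 ^ k) = B k
  | 0, k, h => absurd h (Nat.not_lt_zero k)
  | d + 1, k, h => by
    rcases Nat.lt_succ_iff_lt_or_eq.mp h with h | rfl
    · simp [pb, pb_two_pow B d k h, Nat.testBit_two_pow, h.ne]
    · have : ∀ e ≤ k, pb B e (2 ^ k) = 1 := by
        intro e
        induction e with
        | zero => exact fun _ => rfl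
        | succ e ih =>
          intro he
          simp [pb, ih (by omega), Nat.testBit_two_pow, show k ≠ e by omega]
      simp [pb, this k le_rfl, Nat.testBit_two_pow]

theorem pb_xsum (hA : ∀ a : A, a * a = 1) (B : ℕ → A) (d : ℕ) (V : ℕ → ℕ) :
    ∀ l : List (ℕ × Bool), pb B d (xsum V l) = tprod (fun i => pb B d (V i)) l
  | [] => pb_zero B d
  | t :: l => by
    show pb B d (V t.1 ^^^ xsum V l) = _
    rw [pb_xor hA, pb_xsum hA B d V l]
    simp only [tprod, evalS_cons]
    cases t.2
    · rw [cond_false, inv_eq_of_mul_eq_one_right (hA _)]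
    · rw [cond_true]

end Bits

variable {C}

theorem Cert2.nr_eq : C.nr = C.rels.length := by
  unfold Cert2.nr
  induction C.rels with
  | nil => rfl
  | cons a l ih => exact congrArg Nat.succ ih

theorem trivial_image (hC : C.Checked) {Γ G : Type*} [Group Γ] [Group G] (σ : Γ →* G)
    (hker : σ.ker ≤ Subgroup.center Γ)
    (φ : G →* Equiv.Perm (Fin C.n)) (g : ℕ → G)
    (hT : ∀ x < C.K, ∀ c : Fin C.n, (((φ (g x))⁻¹ c : Fin C.n) : ℕ) = C.T c x)
    (hback : ∀ x < C.K, ∀ c : Fin C.n, ((φ (g x) c : Fin C.n) : ℕ) = C.back c x)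
    (hrels : ∀ w ∈ C.rels, evalS g w = 1)
    (S : Subgroup G) (hS : ∀ y : G, φ y ⟨0, hC.n_pos⟩ = ⟨0, hC.n_pos⟩ ↔ y ∈ S)
    (l0 : ℕ → Γ) (hl0 : ∀ x, σ (l0 x) = g x)
    (hgen : Subgroup.closure {e | ∃ x < C.K, l0 x = e} = ⊤)
    {A : Type*} [CommGroup A] (hA : ∀ a : A, a * a = 1) (ρ : S.comap σ →* A)
    (hzero : ∀ k ∈ C.zero, ∀ h, ρ ⟨evalS l0 (C.rels.getD k []), h⟩ = 1) :
    ∀ p : S.comap σ, ρ p = 1 := by
  classical
  -- the right action
  let act : Fin C.n → Γ → Fin C.n := fun c e => (φ (σ e))⁻¹ c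
  have act_mul : ∀ c e e', act c (e * e') = act (act c e) e' := fun c e e' => by
    show (φ (σ (e * e')))⁻¹ c = (φ (σ e'))⁻¹ ((φ (σ e))⁻¹ c)
    rw [map_mul, map_mul, mul_inv_rev, Equiv.Perm.mul_apply]
  have act_one : ∀ c, act c 1 = c := fun c => by
    show (φ (σ 1))⁻¹ c = c
    rw [map_one, map_one, inv_one, Equiv.Perm.one_apply]
  have act_ker : ∀ c z, z ∈ σ.ker → act c z = c := fun c z hz => by
    show (φ (σ z))⁻¹ c = c
    rw [MonoidHom.mem_ker.mp hz, map_one, inv_one, Equiv.Perm.one_apply]
  have act_letter : ∀ x < C.K, ∀ c : Fin C.n, (act c (l0 x) : ℕ) = C.T c x ∧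
      (act c (l0 x)⁻¹ : ℕ) = C.back c x := fun x hx c => by
    refine ⟨?_, ?_⟩
    · show (((φ (σ (l0 x)))⁻¹ c : Fin C.n) : ℕ) = _
      rw [hl0]; exact hT x hx c
    · show (((φ (σ (l0 x)⁻¹))⁻¹ c : Fin C.n) : ℕ) = _
      rw [map_inv, map_inv, inv_inv, hl0]; exact hback x hx c
  let p0 : Fin C.n := ⟨0, hC.n_pos⟩
  -- the transversal
  let τ : ℕ → Γ := fun c => WellFounded.fix (C := fun _ => Γ) Nat.lt_wfRel.wf
    (fun c rec => if h : c ≠ 0 ∧ C.par c / C.K < c then rec _ h.2 * l0 (C.par c % C.K) else 1) c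
  have hτeq : ∀ c, τ c = if c ≠ 0 ∧ C.par c / C.K < c then τ (C.par c / C.K) * l0 (C.par c % C.K)
      else 1 := fun c => by
    show WellFounded.fix _ _ c = _
    rw [WellFounded.fix_eq]
    split_ifs <;> rfl
  have hK : ∀ i, i < C.n * C.K → 0 < C.K := fun i hi => Nat.pos_of_ne_zero fun h => by simp [h] at hi
  have htree : ∀ c, c ≠ 0 → c < C.n → C.par c / C.K < c ∧
      C.T (C.par c / C.K) (C.par c % C.K) = c := fun c h0 hc => by
    have h := hC.tree c hc
    simp only [Cert2.treeB, force_eq, Bool.or_eq_true, Bool.and_eq_true, Nat.beq_eq, Nat.blt_eq] at h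
    exact h.resolve_left h0
  have hτ : ∀ c : Fin C.n, act p0 (τ c) = c := by
    rintro ⟨c, hc⟩
    induction c using Nat.strong_induction_on with
    | _ c ih =>
      show act p0 (τ c) = ⟨c, hc⟩
      by_cases h0 : c = 0
      · subst h0
        rw [hτeq, if_neg (by simp)]
        exact (act_one p0).trans rfl
      · obtain ⟨h1, h2⟩ := htree c h0 hc
        have hKpos := hC.K_pos
        rw [hτeq, if_pos ⟨h0, h1⟩, act_mul, ih _ h1 (h1.trans hc)]
        exact Fin.ext ((act_letter _ (Nat.mod_lt _ hKpos) _).1.trans h2)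
  -- the cocycle
  have hmem : ∀ (c : Fin C.n) (e : Γ), τ c * e * (τ (act c e))⁻¹ ∈ S.comap σ := fun c e => by
    rw [Subgroup.mem_comap]
    refine (hS _).1 ?_
    have h1 : act p0 (τ c * e * (τ (act c e))⁻¹) = p0 := by
      rw [act_mul, act_mul, hτ]
      generalize act c e = u
      have h3 : act p0 (τ u * (τ u)⁻¹) = p0 := by rw [mul_inv_cancel, act_one]
      rw [act_mul, hτ] at h3
      exact h3
    have h2 : (φ (σ (τ c * e * (τ (act c e))⁻¹)))⁻¹ p0 = p0 := h1
    exact (Equiv.Perm.inv_eq_iff_eq.mp h2).symm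
  let f : Fin C.n → Γ → A := fun c e => ρ ⟨_, hmem c e⟩
  have hfmul : ∀ c e e', f c (e * e') = f c e * f (act c e) e' := fun c e e' => by
    simp only [f, ← map_mul]
    congr 1
    apply Subtype.ext
    simp only [Subgroup.coe_mul, act_mul]
    group
  have hf1 : ∀ c, f c 1 = 1 := fun c => by
    refine (congrArg ρ (Subtype.ext ?_)).trans (map_one ρ)
    show τ c * 1 * (τ (act c 1))⁻¹ = 1
    rw [act_one, mul_one, mul_inv_cancel]
  have hfinv : ∀ c e, f c e⁻¹ = (f (act c e⁻¹) e)⁻¹ := fun c e => by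
    rw [eq_inv_iff_mul_eq_one, ← hfmul, inv_mul_cancel, hf1]
  have hkmem : ∀ z, z ∈ σ.ker → z ∈ S.comap σ := fun z hz => by
    rw [Subgroup.mem_comap, MonoidHom.mem_ker.mp hz]
    exact one_mem S
  have hfker : ∀ (c : Fin C.n) (z : Γ) (hz : z ∈ σ.ker), f c z = ρ ⟨z, hkmem z hz⟩ := fun c z hz => by
    refine congrArg ρ (Subtype.ext ?_)
    show τ c * z * (τ (act c z))⁻¹ = z
    rw [act_ker c z hz,
      Subgroup.mem_center_iff.mp (hker hz) (τ c), mul_inv_cancel_right]
  let val : ℕ → A := fun i => if h : i / C.K < C.n then f ⟨i / C.K, h⟩ (l0 (i % C.K)) else 1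
  have hval : ∀ (c : Fin C.n) x, x < C.K → val ((c : ℕ) * C.K + x) = f c (l0 x) := fun c x hx => by
    have h1 : ((c : ℕ) * C.K + x) / C.K = c := by
      rw [mul_comm, Nat.mul_add_div (by omega), Nat.div_eq_of_lt hx, Nat.add_zero]
    have h2 : ((c : ℕ) * C.K + x) % C.K = x := Nat.mul_add_mod_of_lt hx
    simp only [val, dif_pos (show ((c : ℕ) * C.K + x) / C.K < C.n by rw [h1]; exact c.2), h2]
    exact congrArg (fun u => f u (l0 x)) (Fin.ext h1)
  have hidx : ∀ (c : Fin C.n) x, x < C.K → (c : ℕ) * C.K + x < C.n * C.K := fun c x hx => by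
    have : ((c : ℕ) + 1) * C.K ≤ C.n * C.K := Nat.mul_le_mul_right _ c.2
    rw [Nat.succ_mul] at this
    omega
  have hpath : ∀ (w : List (ℕ × Bool)), (∀ a ∈ w, a.1 < C.K) → ∀ c : Fin C.n,
      f c (evalS l0 w) = tprod val (path C.T C.back C.K w c) ∧
      (path C.T C.back C.K w c).length = w.length ∧
      ∀ t ∈ path C.T C.back C.K w c, t.1 < C.n * C.K := by
    intro w
    induction w with
    | nil =>
      intro _ c
      refine ⟨?_, rfl, fun t ht => absurd ht (by simp [path])⟩
      rw [evalS_nil, hf1]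
      rfl
    | cons a w ih =>
      intro hw c
      have ha : a.1 < C.K := hw a (by simp)
      have hrest : ∀ b ∈ w, b.1 < C.K := fun b hb => hw b (by simp [hb])
      obtain ⟨x, s⟩ := a
      cases s
      · have hc' : (act c (l0 x)⁻¹ : ℕ) = C.back c x := (act_letter x ha c).2
        have hp : path C.T C.back C.K ((x, false) :: w) c =
            (C.back c x * C.K + x, false) :: path C.T C.back C.K w (C.back c x) := by
          show force (C.back c x) (fun c' => (Nat.add (Nat.mul c' C.K) x, false) ::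
            path C.T C.back C.K w c') = _
          rw [force_eq]
          rfl
        obtain ⟨e1, e2, e3⟩ := ih hrest (act c (l0 x)⁻¹)
        rw [hc'] at e1 e2 e3
        refine ⟨?_, by rw [hp]; simp [e2], ?_⟩
        · rw [hp, evalS_cons, hfmul, cond_false, hfinv, e1]
          simp only [tprod, evalS_cons, cond_false]
          rw [← hc', hval _ x ha]
        · rw [hp, List.forall_mem_cons]
          exact ⟨by rw [← hc']; exact hidx _ x ha, e3⟩
      · have hc' : (act c (l0 x) : ℕ) = C.T c x := (act_letter x ha c).1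
        have hp : path C.T C.back C.K ((x, true) :: w) c =
            ((c : ℕ) * C.K + x, true) :: path C.T C.back C.K w (C.T c x) := by
          show ((c : ℕ) * C.K + x, true) :: force (C.T c x) _ = _
          rw [force_eq]
          rfl
        obtain ⟨e1, e2, e3⟩ := ih hrest (act c (l0 x))
        rw [hc'] at e1 e2 e3
        refine ⟨?_, by rw [hp]; simp [e2], ?_⟩
        · rw [hp, evalS_cons, hfmul, cond_true, e1]
          simp only [tprod, evalS_cons, cond_true]
          rw [hval _ x ha]
        · rw [hp, List.forall_mem_cons]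
          exact ⟨hidx _ x ha, e3⟩
  have hrk : ∀ k, k < C.nr → C.rels.getD k [] ∈ C.rels := fun k hk => by
    rw [Cert2.nr_eq] at hk
    rw [List.getD_eq_getElem _ _ hk]
    exact List.getElem_mem hk
  have hzk : ∀ k < C.nr, evalS l0 (C.rels.getD k []) ∈ σ.ker := fun k hk => by
    rw [MonoidHom.mem_ker, map_evalS, show (fun x => σ (l0 x)) = g from funext hl0]
    exact hrels _ (hrk k hk)
  let B : ℕ → A := fun i => if h : i < C.nr then ρ ⟨_, hkmem _ (hzk i h)⟩
    else val (C.free.getD (i - C.nr) 0)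
  have hd := hC.d_eq
  have hscan : ∀ k < C.nr, ∀ c : Fin C.n,
      tprod val (path C.T C.back C.K (C.rels.getD k []) c) = B k := fun k hk c => by
    rw [← (hpath _ (hC.relsLt _ (hrk k hk)) c).1, hfker c _ (hzk k hk)]
    simp only [B, dif_pos hk]
  let Vv : ℕ → A := fun i => pb B C.d (C.V i)
  -- the recorded bits give the values
  have hV : ∀ i, i < C.n * C.K → val i = Vv i := by
    intro i
    induction' hi : C.rank i using Nat.strong_induction_on with r ih generalizing i
    intro hlt
    have hKp : 0 < C.K := hK i hlt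
    have h := hC.var i hlt
    simp only [Cert2.varB, force_eq] at h
    generalize hp : Nat.div (Nat.div (C.J i) 1048576) 4 = p at h
    generalize Nat.mod (Nat.div (C.J i) 1048576) 4 = kind at h
    have hdiv : i / C.K < C.n := Nat.div_lt_of_lt_mul (by rwa [mul_comm])
    have hmod : i % C.K < C.K := Nat.mod_lt _ hKp
    cases h0 : Nat.beq kind 0 with
    | true =>
      simp only [h0, cond_true, Bool.and_eq_true, Nat.blt_eq, Nat.beq_eq] at h
      obtain ⟨⟨⟨hpos, hc'⟩, hpar⟩, hv⟩ := h
      change C.par (C.T (i / C.K) (i % C.K)) = i at hpar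
      change 0 < C.T (i / C.K) (i % C.K) at hpos
      change C.T (i / C.K) (i % C.K) < C.n at hc'
      have hact := (act_letter _ hmod ⟨i / C.K, hdiv⟩).1
      obtain ⟨h1, -⟩ := htree _ hpos.ne' hc'
      rw [hpar] at h1
      have hone : val i = 1 := by
        simp only [val, dif_pos hdiv, f]
        refine (congrArg ρ (Subtype.ext ?_)).trans (map_one ρ)
        show τ (i / C.K) * l0 (i % C.K) * (τ (act ⟨i / C.K, hdiv⟩ (l0 (i % C.K)) : ℕ))⁻¹ = 1
        rw [hact, hτeq (C.T (i / C.K) (i % C.K)), hpar, if_pos ⟨hpos.ne', h1⟩, mul_inv_cancel]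
      rw [hone]
      simp only [Vv, hv, pb_zero]
    | false =>
      cases h1 : Nat.beq kind 1 with
      | true =>
        simp only [h0, h1, cond_false, cond_true, Bool.and_eq_true, Nat.blt_eq, Nat.beq_eq] at h
        obtain ⟨⟨⟨hk, hc⟩, hsolo⟩, hlr⟩ := h
        let c : Fin C.n := ⟨_, hc⟩
        refine solo_spec (f := val) (f' := Vv) hsolo (fun t ht hr => ?_) ?_
        · exact ih (C.rank t.1) (by rw [← hi]; exact hr) t.1 rfl
            ((hpath _ (hC.relsLt _ (hrk _ hk)) c).2.2 t ht)
        · refine (hscan _ hk c).trans ?_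
          rw [← pb_two_pow B C.d _ (show _ < C.d by omega)]
          rw [show (2 : ℕ) ^ _ = C.scan _ _ from hlr.symm]
          exact pb_xsum hA B C.d C.V _
      | false =>
        simp only [h0, h1, cond_false, Bool.and_eq_true, Nat.blt_eq, Nat.beq_eq] at h
        obtain ⟨⟨hpf, hfree⟩, hv⟩ := h
        have hpd : C.nr + p < C.d := by omega
        have hv' : C.V i = 2 ^ (C.nr + p) := hv
        simp only [Vv, hv', pb_two_pow B _ _ hpd, B]
        rw [dif_neg (by omega), Nat.add_sub_cancel_left, hfree]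
  -- the rows vanish
  have hrow : ∀ j < C.rows.length + C.zero.length, pb B C.d (C.rowVal j) = 1 := by
    intro j hj
    unfold Cert2.rowVal
    by_cases hlt : j < C.rows.length
    · rw [(Nat.blt_eq ▸ hlt : Nat.blt j C.rows.length = true), cond_true]
      obtain ⟨hk, hc⟩ := hC.rows_lt (C.rows.getD j (0, 0))
        (by rw [List.getD_eq_getElem _ _ hlt]; exact List.getElem_mem _)
      show pb B C.d (C.scan _ _ ^^^ 2 ^ _) = 1
      rw [pb_xor hA, pb_two_pow B _ _ (by omega), Cert2.scan, pb_xsum hA, ← hscan _ hk ⟨_, hc⟩]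
      rw [show tprod val (path C.T C.back C.K (C.rels.getD (C.rows.getD j (0, 0)).1 [])
          (C.rows.getD j (0, 0)).2) = tprod Vv _ from congrArg List.prod (List.map_congr_left fun t ht => by
            rw [hV _ ((hpath _ (hC.relsLt _ (hrk _ hk)) ⟨_, hc⟩).2.2 t ht)])]
      exact hA _
    · rw [show Nat.blt j C.rows.length = false from
        Bool.eq_false_iff.mpr fun hb => hlt (Nat.blt_eq ▸ hb), cond_false]
      have hmem : C.zero.getD (j - C.rows.length) 0 ∈ C.zero := by
        rw [List.getD_eq_getElem _ _ (by omega)]; exact List.getElem_mem _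
      have hlt' := hC.zero_lt _ hmem
      show pb B C.d (2 ^ C.zero.getD (j - C.rows.length) 0) = 1
      rw [pb_two_pow B _ _ (by omega)]
      simp only [B, dif_pos hlt']
      exact hzero _ hmem _
  have hfield : ∀ i < C.d, B i = 1 := by
    intro i hi
    have h := hC.combo i hi
    simp only [Cert2.comboB, Bool.and_eq_true, List.all_eq_true, Nat.blt_eq, Nat.beq_eq] at h
    obtain ⟨hidx, hsum⟩ := h
    rw [← pb_two_pow B C.d i hi, show (2 : ℕ) ^ i = _ from hsum.symm]
    clear hsum
    revert hidx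
    induction C.combos.getD i [] with
    | nil => exact fun _ => pb_zero B _
    | cons j l ih =>
      intro hidx
      show pb B C.d (C.rowVal j ^^^ l.foldr _ 0) = 1
      rw [pb_xor hA, hrow j (hidx j (by simp)), one_mul]
      exact ih fun u hu => hidx u (by simp [hu])
  have hpb : ∀ (d v : ℕ), (∀ i < d, B i = 1) → pb B d v = 1 := by
    intro d
    induction d with
    | zero => exact fun _ _ => rfl
    | succ d ih =>
      intro v h
      simp [pb, ih v fun i hi => h i (by omega), h d (by omega)]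
  have hedge : ∀ i < C.n * C.K, val i = 1 := fun i hi => by
    rw [hV i hi]
    exact hpb _ _ hfield
  have hall : ∀ e : Γ, ∀ c, f c e = 1 := by
    intro e
    have he : e ∈ Subgroup.closure {e | ∃ x < C.K, l0 x = e} := hgen ▸ Subgroup.mem_top e
    induction he using Subgroup.closure_induction with
    | mem e h =>
      obtain ⟨x, hx, rfl⟩ := h
      intro c
      rw [← hval c x hx]
      exact hedge _ (hidx c x hx)
    | one => intro c; rw [hf1]
    | mul e e' _ _ h h' => intro c; rw [hfmul, h c, h' _, one_mul]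
    | inv e _ h => intro c; rw [hfinv, h _, inv_one]
  rintro ⟨p, hp⟩
  have hfix : act p0 p = p0 := by
    show (φ (σ p))⁻¹ p0 = p0
    rw [Equiv.Perm.inv_eq_iff_eq]
    exact ((hS _).2 hp).symm
  have hτ0 : τ (p0 : ℕ) = 1 := by rw [hτeq, if_neg (by simp [p0])]
  have hfp : f p0 p = ρ ⟨p, hp⟩ := congrArg ρ (Subtype.ext (by
    show τ p0 * p * (τ (act p0 p))⁻¹ = p
    rw [hfix, hτ0, one_mul, inv_one, mul_one]))
  rw [← hfp]
  exact hall p p0

end Cfsg.Agent.CocycleCert
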